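/-
The affine curve over a point of the scheme U_n: the algebra with the cubic relation adjoined
(uniform also for m = 0), and the spanning of the monomial family.
-/
import Groth.Prelude.Def_W4c5m1nsnscurvesC
import Mathlib.RingTheory.Ideal.Quotient.Operations
import Mathlib.Algebra.MvPolynomial.CommRing
import Mathlib.Tactic.LinearCombination
import Mathlib.Tactic.Ring
import Mathlib.Tactic.Abel

universe u

open MvPolynomial W4c5m1nsnscurves

namespace Groth.Agent.UCurves

variable {R : Type u} [CommRing R] {m : ℕ}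

/-- the abbreviation `A_i = a + c_i + c̄_i` -/
def capA (v : UGen m → R) (i : Fin m) : R := v .a + v (.ci i) + v (.cbi i)

/-- the constant term of the cubic relation seen from the point `i` -/
def dAt (v : UGen m → R) (i : Fin m) : R :=
  -(v (.ci i) * (v .cb - v .c) - capA v i * v (.ci i) * v (.cbi i) + capA v i * v .c)

/-- the defining equations of `U_n` on an `R`-valued assignment -/
structure IsU (v : UGen m → R) : Prop where
  lin : ∀ (i j : Fin m) (h : i ≠ j), v (.cij i j h) + v (.cij j i (Ne.symm h)) -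
    (v .a + v (.ci i) + v (.cbi i) + v (.ci j) + v (.cbi j)) = 0
  qc : ∀ (i j : Fin m) (h : i ≠ j), v (.cij j i (Ne.symm h)) * v (.ci j) + v (.cij i j h) * v (.ci i) -
    v (.ci i) * v (.ci j) - v .c = 0
  qb : ∀ (i j : Fin m) (h : i ≠ j), v (.cij j i (Ne.symm h)) * v (.cbi i) + v (.cij i j h) * v (.cbi j) -
    v (.cbi i) * v (.cbi j) - v .cb = 0
  cubic : ∀ (i j l : Fin m) (hij : i ≠ j) (hjl : j ≠ l) (hil : i ≠ l),
    v (.cij i j hij) * v (.cij j l hjl) + v (.cij j i (Ne.symm hij)) * v (.cij i l hil) -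
      v (.cij i l hil) * v (.cij j l hjl) + (v .a + v (.ci l) + v (.cbi l)) * v (.ci l) - v .c = 0

theorem isU_iff (v : UGen m → R) : IsU v ↔ ∀ p ∈ URel R m, eval v p = 0 := by
  constructor
  · intro h p hp
    simp only [URel, Set.mem_union, Set.mem_range] at hp
    rcases hp with ((⟨q, rfl⟩ | ⟨q, rfl⟩) | ⟨q, rfl⟩) | ⟨q, rfl⟩
    · simpa using h.lin q.1.1 q.1.2 q.2
    · simpa using h.qc q.1.1 q.1.2 q.2
    · simpa using h.qb q.1.1 q.1.2 q.2
    · simpa using h.cubic q.1.1 q.1.2.1 q.1.2.2 q.2.1 q.2.2.1 q.2.2.2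
  · intro h
    refine ⟨fun i j hij => ?_, fun i j hij => ?_, fun i j hij => ?_, fun i j l hij hjl hil => ?_⟩
    · simpa using h _ (Or.inl (Or.inl (Or.inl ⟨⟨(i, j), hij⟩, rfl⟩)))
    · simpa using h _ (Or.inl (Or.inl (Or.inr ⟨⟨(i, j), hij⟩, rfl⟩)))
    · simpa using h _ (Or.inl (Or.inr ⟨⟨(i, j), hij⟩, rfl⟩))
    · simpa using h _ (Or.inr ⟨⟨(i, j, l), hij, hjl, hil⟩, rfl⟩)

theorem dAt_eq (v : UGen m → R) (h : IsU v) (i n : Fin m) : dAt v i = dAt v n := by
  by_cases hin : i = n
  · rw [hin]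
  have L_in := h.lin i n hin
  have Qc_in := h.qc i n hin
  have Qb_in := h.qb i n hin
  simp only [dAt, capA]
  linear_combination (-(v (.ci i) * v (.cbi i)) + v (.ci n) * v (.cbi n)) * L_in +
    (v (.cbi i) - v (.cbi n)) * Qc_in + (v (.ci i) - v (.ci n)) * Qb_in

/-- the cubic relation between `x₂` and `x₃` -/
noncomputable def Cubic (R : Type u) [CommRing R] (m : ℕ) (a b c d : R) : MvPolynomial (CVar m) R :=
  X .x2 * X .x3 ^ 2 - X .x2 ^ 2 * X .x3 - (C a * X .x2 * X .x3 + C b * X .x2 + C c * X .x3 + C d)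

/-- the relations of the curve together with the cubic one -/
noncomputable def extRel (v : UGen m → R) (d : R) : Set (MvPolynomial (CVar m) R) :=
  CRel R m v ∪ {Cubic R m (v .a) (v .cb - v .c) (v .c) d}

/-- the curve algebra with the cubic relation adjoined -/
abbrev Ext (v : UGen m → R) (d : R) : Type u :=
  MvPolynomial (CVar m) R ⧸ Ideal.span (extRel v d)

/-- the coordinates in `Ext` -/
noncomputable def g (v : UGen m → R) (d : R) (y : CVar m) : Ext v d :=
  Ideal.Quotient.mk _ (X y)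

/-- the scalars in `Ext` -/
noncomputable abbrev k (v : UGen m → R) (d : R) : R →+* Ext v d := algebraMap R (Ext v d)

theorem mk_C (v : UGen m → R) (d : R) (r : R) :
    Ideal.Quotient.mk (Ideal.span (extRel v d)) (C r) = k v d r := rfl

variable (v : UGen m → R) (d : R)

theorem rel2 (i : Fin m) : g v d .x2 * g v d (.xi i) - (g v d .x2 * g v d .x3 +
    k v d (v (.ci i)) * g v d (.xi i) + k v d (v (.cbi i)) * g v d .x2 - k v d (v .c)) = 0 :=
  Ideal.Quotient.eq_zero_iff_mem.2 (Ideal.subset_span (Or.inl (Or.inl (Or.inl ⟨i, rfl⟩))))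

theorem rel3 (i : Fin m) : g v d .x3 * g v d (.xi i) - (g v d .x2 * g v d .x3 +
    k v d (capA v i) * (g v d (.xi i) - k v d (v (.cbi i))) + k v d (v .cb) - k v d (v .c)) = 0 :=
  Ideal.Quotient.eq_zero_iff_mem.2 (Ideal.subset_span (Or.inl (Or.inl (Or.inr ⟨i, rfl⟩))))

theorem relij (i j : Fin m) (h : i ≠ j) : g v d (.xi i) * g v d (.xi j) - (g v d .x2 * g v d .x3 +
    k v d (v (.cij i j h)) * g v d (.xi j) + k v d (v (.cij j i (Ne.symm h))) * g v d (.xi i) -
      k v d (v .c)) = 0 :=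
  Ideal.Quotient.eq_zero_iff_mem.2 (Ideal.subset_span (Or.inl (Or.inr ⟨⟨(i, j), h⟩, rfl⟩)))

theorem relE : g v d .x2 * g v d .x3 ^ 2 - g v d .x2 ^ 2 * g v d .x3 -
    (k v d (v .a) * g v d .x2 * g v d .x3 + k v d (v .cb - v .c) * g v d .x2 +
      k v d (v .c) * g v d .x3 + k v d d) = 0 :=
  Ideal.Quotient.eq_zero_iff_mem.2 (Ideal.subset_span (Or.inr rfl))

/-- the monomial family of the curve, as polynomials -/
noncomputable def pmon (R : Type u) [CommRing R] (m : ℕ) :
    Option (ℕ ⊕ (CVar m × ℕ)) → MvPolynomial (CVar m) R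
  | none => 1
  | some (Sum.inl k) => X .x2 ^ (k + 1) * X .x3
  | some (Sum.inr (y, k)) => X y ^ (k + 1)

theorem cmon_eq (z : Option (ℕ ⊕ (CVar m × ℕ))) :
    cmon R m v z = Ideal.Quotient.mk (Ideal.span (CRel R m v)) (pmon R m z) := by
  rcases z with _ | ⟨_ | ⟨y, n⟩⟩ <;> simp [cmon, pmon]

/-- the monomial family in `Ext` -/
noncomputable def mon (z : Option (ℕ ⊕ (CVar m × ℕ))) : Ext v d :=
  Ideal.Quotient.mk _ (pmon R m z)

/-- the span of the monomial family -/
noncomputable def S : Submodule R (Ext v d) := Submodule.span R (Set.range (mon v d))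

theorem one_mem : (1 : Ext v d) ∈ S v d :=
  Submodule.subset_span ⟨none, by simp [mon, pmon]⟩

theorem pow_mem (y : CVar m) (n : ℕ) : g v d y ^ n ∈ S v d := by
  cases n with
  | zero => simpa using one_mem v d
  | succ n => exact Submodule.subset_span ⟨some (Sum.inr (y, n)), by simp [mon, pmon, g]⟩

theorem x23_mem (n : ℕ) : g v d .x2 ^ (n + 1) * g v d .x3 ∈ S v d :=
  Submodule.subset_span ⟨some (Sum.inl n), by simp [mon, pmon, g]⟩

theorem k_mul_mem (r : R) {x : Ext v d} (hx : x ∈ S v d) : k v d r * x ∈ S v d := by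
  rw [k, ← Algebra.smul_def]
  exact Submodule.smul_mem _ r hx

theorem x2_pow_mul_x3_pow_mem : ∀ q p : ℕ, g v d .x2 ^ p * g v d .x3 ^ q ∈ S v d
  | 0, p => by simpa using pow_mem v d .x2 p
  | 1, 0 => by simpa using pow_mem v d .x3 1
  | 1, p + 1 => by simpa using x23_mem v d p
  | q + 2, 0 => by simpa using pow_mem v d .x3 (q + 2)
  | q + 2, p + 1 => by
    have key : g v d .x2 ^ (p + 1) * g v d .x3 ^ (q + 2) =
        g v d .x2 ^ (p + 2) * g v d .x3 ^ (q + 1) +
          (k v d (v .a) * (g v d .x2 ^ (p + 1) * g v d .x3 ^ (q + 1)) +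
          (k v d (v .cb - v .c) * (g v d .x2 ^ (p + 1) * g v d .x3 ^ q) +
          (k v d (v .c) * (g v d .x2 ^ p * g v d .x3 ^ (q + 1)) +
          k v d d * (g v d .x2 ^ p * g v d .x3 ^ q)))) := by
      linear_combination (g v d .x2 ^ p * g v d .x3 ^ q) * relE v d
    rw [key]
    refine add_mem (x2_pow_mul_x3_pow_mem (q + 1) _) (add_mem (k_mul_mem v d _ (x2_pow_mul_x3_pow_mem (q + 1) _))
      (add_mem (k_mul_mem v d _ (x2_pow_mul_x3_pow_mem q _))
        (add_mem (k_mul_mem v d _ (x2_pow_mul_x3_pow_mem (q + 1) _))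
          (k_mul_mem v d _ (x2_pow_mul_x3_pow_mem q _)))))

theorem x2_mul_xi_mem (i : Fin m) : ∀ n p : ℕ,
    g v d .x2 ^ p * g v d (.xi i) ^ n ∈ S v d ∧
      g v d .x2 ^ (p + 1) * g v d .x3 * g v d (.xi i) ^ n ∈ S v d := by
  intro n
  induction n with
  | zero => exact fun p => ⟨by simpa using pow_mem v d .x2 p, by simpa using x23_mem v d p⟩
  | succ n ih =>
    have h1 : ∀ p, g v d .x2 ^ p * g v d (.xi i) ^ (n + 1) ∈ S v d := by
      intro p
      induction p with
      | zero => simpa using pow_mem v d (.xi i) (n + 1)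
      | succ p ihp =>
        have key : g v d .x2 ^ (p + 1) * g v d (.xi i) ^ (n + 1) =
            g v d .x2 ^ (p + 1) * g v d .x3 * g v d (.xi i) ^ n +
              (k v d (v (.ci i)) * (g v d .x2 ^ p * g v d (.xi i) ^ (n + 1)) +
              (k v d (v (.cbi i)) * (g v d .x2 ^ (p + 1) * g v d (.xi i) ^ n) -
              k v d (v .c) * (g v d .x2 ^ p * g v d (.xi i) ^ n))) := by
          linear_combination (g v d .x2 ^ p * g v d (.xi i) ^ n) * rel2 v d i
        rw [key]
        exact add_mem (ih p).2 (add_mem (k_mul_mem v d _ ihp)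
          (sub_mem (k_mul_mem v d _ (ih (p + 1)).1) (k_mul_mem v d _ (ih p).1)))
    refine fun p => ⟨h1 p, ?_⟩
    have key : g v d .x2 ^ (p + 1) * g v d .x3 * g v d (.xi i) ^ (n + 1) =
        g v d .x2 ^ (p + 1 + 1) * g v d .x3 * g v d (.xi i) ^ n +
          (k v d (capA v i) * (g v d .x2 ^ (p + 1) * g v d (.xi i) ^ (n + 1)) +
          k v d (v .cb - v .c - capA v i * v (.cbi i)) * (g v d .x2 ^ (p + 1) * g v d (.xi i) ^ n)) := by
      simp only [map_sub, map_mul]
      linear_combination (g v d .x2 ^ (p + 1) * g v d (.xi i) ^ n) * rel3 v d i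
    rw [key]
    exact add_mem (ih (p + 1)).2 (add_mem (k_mul_mem v d _ (h1 (p + 1)))
      (k_mul_mem v d _ (ih (p + 1)).1))

theorem x3_mul_xi_mem (i : Fin m) : ∀ n : ℕ, g v d .x3 * g v d (.xi i) ^ n ∈ S v d
  | 0 => by simpa using pow_mem v d .x3 1
  | n + 1 => by
    have key : g v d .x3 * g v d (.xi i) ^ (n + 1) =
        g v d .x2 ^ (0 + 1) * g v d .x3 * g v d (.xi i) ^ n +
          (k v d (capA v i) * g v d (.xi i) ^ (n + 1) +
          k v d (v .cb - v .c - capA v i * v (.cbi i)) * g v d (.xi i) ^ n) := by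
      simp only [map_sub, map_mul]
      linear_combination (g v d (.xi i) ^ n) * rel3 v d i
    rw [key]
    exact add_mem (x2_mul_xi_mem v d i n 0).2
      (add_mem (k_mul_mem v d _ (pow_mem v d _ _)) (k_mul_mem v d _ (pow_mem v d _ _)))

theorem xi_mul_x3_pow_mem (i : Fin m) : ∀ n : ℕ, g v d (.xi i) * g v d .x3 ^ n ∈ S v d
  | 0 => by simpa using pow_mem v d (.xi i) 1
  | n + 1 => by
    have key : g v d (.xi i) * g v d .x3 ^ (n + 1) =
        g v d .x2 ^ 1 * g v d .x3 ^ (n + 1) +
          (k v d (capA v i) * (g v d (.xi i) * g v d .x3 ^ n) +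
          k v d (v .cb - v .c - capA v i * v (.cbi i)) * g v d .x3 ^ n) := by
      simp only [map_sub, map_mul]
      linear_combination (g v d .x3 ^ n) * rel3 v d i
    rw [key]
    exact add_mem (x2_pow_mul_x3_pow_mem v d _ _)
      (add_mem (k_mul_mem v d _ (xi_mul_x3_pow_mem i n)) (k_mul_mem v d _ (pow_mem v d _ _)))

theorem xi_mul_xj_pow_mem (i j : Fin m) : ∀ n : ℕ, g v d (.xi i) * g v d (.xi j) ^ n ∈ S v d := by
  intro n
  by_cases h : i = j
  · subst h
    rw [← pow_succ']
    exact pow_mem v d _ _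
  induction n with
  | zero => simpa using pow_mem v d (.xi i) 1
  | succ n ih =>
    have key : g v d (.xi i) * g v d (.xi j) ^ (n + 1) =
        g v d .x2 ^ (0 + 1) * g v d .x3 * g v d (.xi j) ^ n +
          (k v d (v (.cij i j h)) * g v d (.xi j) ^ (n + 1) +
          (k v d (v (.cij j i (Ne.symm h))) * (g v d (.xi i) * g v d (.xi j) ^ n) -
          k v d (v .c) * g v d (.xi j) ^ n)) := by
      linear_combination (g v d (.xi j) ^ n) * relij v d i j h
    rw [key]
    exact add_mem (x2_mul_xi_mem v d j n 0).2 (add_mem (k_mul_mem v d _ (pow_mem v d _ _))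
      (sub_mem (k_mul_mem v d _ ih) (k_mul_mem v d _ (pow_mem v d _ _))))

theorem gen_mul_mon_mem (y : CVar m) (z : Option (ℕ ⊕ (CVar m × ℕ))) :
    g v d y * mon v d z ∈ S v d := by
  rcases z with _ | ⟨n | ⟨w, n⟩⟩
  · simpa [mon, pmon] using pow_mem v d y 1
  · have : mon v d (some (Sum.inl n)) = g v d .x2 ^ (n + 1) * g v d .x3 := by simp [mon, pmon, g]
    rw [this]
    rcases y with _ | _ | i
    · rw [← mul_assoc, ← pow_succ']
      exact x23_mem v d _
    · rw [mul_left_comm, ← sq]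
      exact x2_pow_mul_x3_pow_mem v d _ _
    · rw [mul_comm]
      simpa using (x2_mul_xi_mem v d i 1 n).2
  · have : mon v d (some (Sum.inr (w, n))) = g v d w ^ (n + 1) := by simp [mon, pmon, g]
    rw [this]
    rcases y with _ | _ | i <;> rcases w with _ | _ | j
    · rw [← pow_succ']; exact pow_mem v d _ _
    · simpa using x2_pow_mul_x3_pow_mem v d (n + 1) 1
    · simpa using (x2_mul_xi_mem v d j (n + 1) 1).1
    · rw [mul_comm]; exact x23_mem v d n
    · rw [← pow_succ']; exact pow_mem v d _ _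
    · exact x3_mul_xi_mem v d j _
    · rw [mul_comm]; simpa using (x2_mul_xi_mem v d i 1 (n + 1)).1
    · exact xi_mul_x3_pow_mem v d i _
    · exact xi_mul_xj_pow_mem v d i j _

theorem span_mon : S v d = ⊤ := by
  rw [eq_top_iff]
  rintro x -
  obtain ⟨p, rfl⟩ := Ideal.Quotient.mk_surjective x
  induction p using MvPolynomial.induction_on with
  | C r =>
    rw [mk_C, ← mul_one (k v d r)]
    exact k_mul_mem v d r (one_mem v d)
  | add p q hp hq =>
    rw [map_add]
    exact add_mem hp hq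
  | mul_X p y hp =>
    rw [map_mul, mul_comm]
    have : Submodule.map (LinearMap.mulLeft R (g v d y)) (S v d) ≤ S v d := by
      rw [S, Submodule.map_span, Submodule.span_le]
      rintro _ ⟨_, ⟨z, rfl⟩, rfl⟩
      exact gen_mul_mon_mem v d y z
    exact this ⟨_, hp, rfl⟩

end Groth.Agent.UCurves
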