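/-
Adjoining one point: an algebra `A` with a character `φ` and a `φ`-twisted derivation `D` gives
commuting operators on `A × (ℕ →₀ R)`.
-/
import Mathlib.LinearAlgebra.Matrix.Notation
import Mathlib.Data.Matrix.Basic
import Mathlib.LinearAlgebra.Finsupp.LinearCombination
import Mathlib.LinearAlgebra.LinearIndependent.Lemmas
import Mathlib.Algebra.Algebra.Subalgebra.Lattice
import Mathlib.Algebra.Polynomial.Eval.Algebra
import Mathlib.Algebra.MvPolynomial.CommRing
import Mathlib.RingTheory.Ideal.Quotient.Operations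
import Mathlib.Tactic.LinearCombination
import Mathlib.Tactic.Ring

universe u

namespace Groth.Agent.UCurves

/-- a character together with a twisted derivation -/
structure Twist (R A : Type u) [CommRing R] [CommRing A] [Algebra R A] where
  φ : A →ₐ[R] R
  D : A →ₗ[R] A
  mul : ∀ x y, D (x * y) = x * D y + algebraMap R A (φ y) * D x

namespace Twist

variable {R A : Type u} [CommRing R] [CommRing A] [Algebra R A] (T : Twist R A)

theorem D_one : T.D 1 = 0 := by
  have h := T.mul 1 1
  simp at h
  exact h

/-- `act n y` is the image of the `n`-th power of the new variable under multiplication by `y` -/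
noncomputable def act : ℕ → A →ₗ[R] A × (ℕ →₀ R)
  | 0 => LinearMap.inl R A (ℕ →₀ R)
  | k + 1 => T.φ.toLinearMap.smulRight ((0 : A), Finsupp.single k (1 : R)) + (act k).comp T.D

theorem act_zero (y : A) : T.act 0 y = (y, 0) := rfl

theorem act_succ (k : ℕ) (y : A) :
    T.act (k + 1) y = T.φ y • ((0 : A), Finsupp.single k (1 : R)) + T.act k (T.D y) := rfl

theorem act_one (k : ℕ) : T.act (k + 1) 1 = ((0 : A), Finsupp.single k (1 : R)) := by
  rw [act_succ, D_one, map_one, one_smul, map_zero, add_zero]

/-- multiplication by `y` -/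
noncomputable def opL (y : A) : A × (ℕ →₀ R) →ₗ[R] A × (ℕ →₀ R) :=
  LinearMap.coprod ((LinearMap.inl R A (ℕ →₀ R)).comp (LinearMap.mulLeft R y))
    (Finsupp.linearCombination R fun k => T.act (k + 1) y)

theorem opL_inl (y a : A) : T.opL y (a, 0) = (y * a, 0) := by simp [opL]

theorem opL_single (y : A) (k : ℕ) :
    T.opL y ((0 : A), Finsupp.single k (1 : R)) = T.act (k + 1) y := by simp [opL]

theorem opL_act (y : A) : ∀ (k : ℕ) (y' : A), T.opL y (T.act k y') = T.act k (y * y') := by
  intro k
  induction k generalizing y with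
  | zero => intro y'; rw [act_zero, act_zero, opL_inl]
  | succ k ih =>
    intro y'
    rw [act_succ, act_succ, map_add, map_smul, opL_single, ih, act_succ, T.mul y y', map_add,
      ← Algebra.smul_def (T.φ y') (T.D y), map_smul, map_mul T.φ, smul_add, smul_smul,
      mul_comm (T.φ y') (T.φ y)]
    abel

theorem ext_op {f g : A × (ℕ →₀ R) →ₗ[R] A × (ℕ →₀ R)} (h1 : ∀ a, f (a, 0) = g (a, 0))
    (h2 : ∀ k, f ((0 : A), Finsupp.single k (1 : R)) = g ((0 : A), Finsupp.single k (1 : R))) : f = g :=
  LinearMap.prod_ext (LinearMap.ext fun a => h1 a)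
    (Finsupp.lhom_ext' fun k => LinearMap.ext_ring (h2 k))

/-- multiplication operators as an algebra homomorphism -/
noncomputable def op : A →ₐ[R] Module.End R (A × (ℕ →₀ R)) :=
  AlgHom.ofLinearMap
    { toFun := T.opL
      map_add' := fun x y => ext_op (fun a => by simp [opL, add_mul])
        (fun k => by
          rw [LinearMap.add_apply, opL_single, opL_single, opL_single, map_add])
      map_smul' := fun r x => ext_op (fun a => by simp [opL])
        (fun k => by
          rw [LinearMap.smul_apply, opL_single, opL_single, map_smul, RingHom.id_apply]) }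
    (ext_op (fun a => by simp [opL, Module.End.one_apply])
      (fun k => by simp [opL, Module.End.one_apply, act_one]))
    (fun x y => ext_op
      (fun a => by
        simp only [LinearMap.coe_mk, AddHom.coe_mk, Module.End.mul_apply, opL_inl, mul_assoc])
      (fun k => by
        simp only [LinearMap.coe_mk, AddHom.coe_mk, Module.End.mul_apply, opL_single, opL_act]))

theorem op_inl (y a : A) : T.op y (a, 0) = (y * a, 0) := T.opL_inl y a

theorem op_single (y : A) (k : ℕ) :
    T.op y ((0 : A), Finsupp.single k (1 : R)) = T.act (k + 1) y := T.opL_single y k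

/-- the new variable -/
noncomputable def X : Module.End R (A × (ℕ →₀ R)) :=
  LinearMap.coprod (T.act 1) ((LinearMap.inr R A (ℕ →₀ R)).comp (Finsupp.lmapDomain R R Nat.succ))

theorem X_inl (a : A) : T.X (a, 0) = T.act 1 a := by simp [X]

theorem X_single (k : ℕ) :
    T.X ((0 : A), Finsupp.single k (1 : R)) = ((0 : A), Finsupp.single (k + 1) (1 : R)) := by simp [X]

theorem X_act : ∀ (k : ℕ) (y : A), T.X (T.act k y) = T.act (k + 1) y
  | 0, y => by rw [act_zero, X_inl]
  | k + 1, y => by
    rw [act_succ, map_add, map_smul, X_single, X_act k, ← act_succ]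

theorem X_op (y : A) : T.X * T.op y = T.op y * T.X := by
  refine ext_op (fun a => ?_) (fun k => ?_)
  · rw [Module.End.mul_apply, Module.End.mul_apply, op_inl, X_inl, X_inl]
    exact (T.opL_act y 1 a).symm
  · rw [Module.End.mul_apply, Module.End.mul_apply, op_single, X_act, X_single, op_single]

theorem op_mul_X (y : A) : T.op y * T.X = T.φ y • T.X + T.op (T.D y) := by
  refine ext_op (fun a => ?_) (fun k => ?_)
  · rw [Module.End.mul_apply, LinearMap.add_apply, LinearMap.smul_apply, X_inl, op_inl]
    refine (T.opL_act y 1 a).trans ?_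
    have e : T.D (y * a) = algebraMap R A (T.φ y) * T.D a + T.D y * a := by
      rw [mul_comm y a, T.mul a y]
      ring
    rw [act_succ, act_succ, e, map_mul T.φ, map_add, ← Algebra.smul_def, map_smul, smul_add, smul_smul]
    simp only [act_zero]
    abel
  · rw [Module.End.mul_apply, LinearMap.add_apply, LinearMap.smul_apply, X_single, op_single,
      op_single, act_succ]

theorem X_pow_one : ∀ n : ℕ, (T.X ^ (n + 1)) ((1 : A), (0 : ℕ →₀ R)) = ((0 : A), Finsupp.single n (1 : R))
  | 0 => by rw [pow_one, X_inl, act_one]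
  | n + 1 => by rw [pow_succ', Module.End.mul_apply, X_pow_one n, X_single]

/-- polynomials over `A` acting through `op` and `X` -/
noncomputable def eval : Polynomial A →+* Module.End R (A × (ℕ →₀ R)) :=
  Polynomial.eval₂RingHom' T.op.toRingHom T.X (fun a => (T.X_op a).symm)

theorem eval_C (a : A) : T.eval (Polynomial.C a) = T.op a :=
  Polynomial.eval₂_C _ _

theorem eval_X : T.eval Polynomial.X = T.X :=
  Polynomial.eval₂_X _ _

end Twist

open MvPolynomial in
/-- A twisted derivation on a presented algebra is determined by consistent values on the generators. -/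
theorem exists_twist {R : Type u} [CommRing R] {σ : Type} (s : Set (MvPolynomial σ R))
    (w : σ → R) (δ : σ → MvPolynomial σ R ⧸ Ideal.span s)
    (hsym : ∀ x y, (Ideal.Quotient.mk (Ideal.span s) (MvPolynomial.X x) - algebraMap R _ (w x)) * δ y =
      (Ideal.Quotient.mk (Ideal.span s) (MvPolynomial.X y) - algebraMap R _ (w y)) * δ x)
    (hw : ∀ p ∈ s, MvPolynomial.eval w p = 0)
    (hδ : ∀ (D : MvPolynomial σ R →ₗ[R] MvPolynomial σ R ⧸ Ideal.span s),
      (∀ p q, D (p * q) = Ideal.Quotient.mk (Ideal.span s) p * D q +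
        algebraMap R _ (MvPolynomial.eval w q) * D p) →
      (∀ r, D (C r) = 0) → (∀ x, D (MvPolynomial.X x) = δ x) → ∀ p ∈ s, D p = 0) :
    ∃ T : Twist R (MvPolynomial σ R ⧸ Ideal.span s),
      (∀ x, T.φ (Ideal.Quotient.mk (Ideal.span s) (MvPolynomial.X x)) = w x) ∧
        ∀ x, T.D (Ideal.Quotient.mk (Ideal.span s) (MvPolynomial.X x)) = δ x := by
  classical
  let A := MvPolynomial σ R ⧸ Ideal.span s
  let mat : σ → Matrix (Fin 2) (Fin 2) A := fun x =>
    !![Ideal.Quotient.mk _ (MvPolynomial.X x), δ x; 0, algebraMap R A (w x)]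
  have hcomm : ∀ a ∈ Set.range mat, ∀ b ∈ Set.range mat, a * b = b * a := by
    rintro _ ⟨x, rfl⟩ _ ⟨y, rfl⟩
    have := hsym x y
    ext i j
    fin_cases i <;> fin_cases j <;> simp [mat, Matrix.mul_apply, Fin.sum_univ_two] <;>
      first | ring | linear_combination this
  letI := Algebra.isMulCommutative_adjoin R hcomm
  let B := Algebra.adjoin R (Set.range mat)
  open scoped IsMulCommutative in
  let Θ : MvPolynomial σ R →ₐ[R] B := aeval fun x => (⟨mat x, Algebra.subset_adjoin ⟨x, rfl⟩⟩ : B)
  let Φ : MvPolynomial σ R →ₐ[R] Matrix (Fin 2) (Fin 2) A := B.val.comp Θ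
  have hΦX : ∀ x, Φ (MvPolynomial.X x) = mat x := by intro x; simp [Φ, Θ]
  have hΦC : ∀ r, Φ (C r) = algebraMap R (Matrix (Fin 2) (Fin 2) A) r :=
    fun r => Φ.commutes r
  have shape : ∀ p, Φ p 0 0 = Ideal.Quotient.mk _ p ∧ Φ p 1 0 = 0 ∧
      Φ p 1 1 = algebraMap R A (MvPolynomial.eval w p) := by
    intro p
    induction p using MvPolynomial.induction_on with
    | C r => refine ⟨?_, ?_, ?_⟩ <;> simp [hΦC, Matrix.algebraMap_eq_diagonal] <;> rfl
    | add p q hp hq => simp [hp.1, hp.2.1, hp.2.2, hq.1, hq.2.1, hq.2.2]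
    | mul_X p x hp =>
      simp [map_mul, hΦX, Matrix.mul_apply, Fin.sum_univ_two, hp.1, hp.2.1, hp.2.2, mat]
  let D : MvPolynomial σ R →ₗ[R] A :=
    { toFun := fun p => Φ p 0 1
      map_add' := fun p q => by simp
      map_smul' := fun r p => by simp [map_smul] }
  have hDmul : ∀ p q, D (p * q) = Ideal.Quotient.mk _ p * D q + algebraMap R A (MvPolynomial.eval w q) * D p := by
    intro p q
    simp [D, map_mul, Matrix.mul_apply, Fin.sum_univ_two, (shape p).1, (shape q).2.2]
    ring
  have hDC : ∀ r, D (C r) = 0 := by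
    intro r
    simp [D, hΦC, Matrix.algebraMap_eq_diagonal]
  have hDX : ∀ x, D (MvPolynomial.X x) = δ x := by intro x; simp [D, hΦX, mat]
  have hs := hδ D hDmul hDC hDX
  have hwI : ∀ p ∈ Ideal.span s, MvPolynomial.eval w p = 0 := fun p hp =>
    (Ideal.span_le (I := RingHom.ker (MvPolynomial.eval w))).2 hw hp
  have hDI : ∀ p ∈ Ideal.span s, D p = 0 := by
    intro p hp
    induction hp using Submodule.span_induction with
    | mem q hq => exact hs q hq
    | zero => simp
    | add x y _ _ hx hy => simp [hx, hy]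
    | smul r x hx' hx =>
      rw [smul_eq_mul, hDmul, hx, hwI x hx', map_zero]
      simp
  let φ : A →ₐ[R] R := Ideal.Quotient.liftₐ _ (aeval w) (fun p hp => by
    rw [← hwI p hp]; rfl)
  let DA : A →ₗ[R] A := (((Ideal.span s).restrictScalars R)).liftQ D (fun p hp => hDI p hp)
  refine ⟨⟨φ, DA, ?_⟩, fun x => ?_, fun x => ?_⟩
  · intro a b
    obtain ⟨p, rfl⟩ := Ideal.Quotient.mk_surjective a
    obtain ⟨q, rfl⟩ := Ideal.Quotient.mk_surjective b
    exact hDmul p q
  · change aeval w (MvPolynomial.X x) = w x
    simp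
  · exact hDX x

end Groth.Agent.UCurves
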