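/-
Independence of the staircase monomials modulo the cubic.
-/
import Groth.Agent.UCurves.Basic
import Groth.Agent.UCurves.Twist
import Groth.Prelude.Def_W4c5m1nsnscurvesI
import Mathlib.Algebra.MvPolynomial.Degrees
import Mathlib.Algebra.MvPolynomial.Equiv
import Mathlib.LinearAlgebra.LinearIndependent.Lemmas

universe u

open MvPolynomial W4c5m1nsnscurves

namespace Groth.Agent.UCurves

variable {R : Type u} [CommRing R] {m : ℕ}

/-- the exponent of a member of the monomial family -/
noncomputable def pexp (m : ℕ) : Option (ℕ ⊕ (CVar m × ℕ)) → (CVar m →₀ ℕ)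
  | none => 0
  | some (Sum.inl k) => Finsupp.single .x2 (k + 1) + Finsupp.single .x3 1
  | some (Sum.inr (y, k)) => Finsupp.single y (k + 1)

theorem pmon_eq (z : Option (ℕ ⊕ (CVar m × ℕ))) : pmon R m z = monomial (pexp m z) 1 := by
  rcases z with _ | ⟨n | ⟨y, n⟩⟩
  · simp [pmon, pexp]
  · rw [pmon, pexp, X_pow_eq_monomial, X, monomial_mul, mul_one]
  · rw [pmon, pexp, X_pow_eq_monomial]

theorem pexp_not_top (z : Option (ℕ ⊕ (CVar m × ℕ))) :
    ¬ (1 ≤ pexp m z .x2 ∧ 2 ≤ pexp m z .x3) := by
  classical
  rcases z with _ | ⟨n | ⟨y, n⟩⟩ <;> simp [pexp, Finsupp.single_apply]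
  split_ifs <;> simp_all

theorem pexp_injective : Function.Injective (pexp m) := by
  classical
  intro z w h
  have h2 := DFunLike.congr_fun h .x2
  have h3 := DFunLike.congr_fun h .x3
  rcases z with _ | ⟨n | ⟨y, n⟩⟩ <;> rcases w with _ | ⟨n' | ⟨y', n'⟩⟩
  · rfl
  · simp [pexp] at h2
  · have hy := DFunLike.congr_fun h y'; simp [pexp] at hy
  · simp [pexp] at h2
  · simp [pexp] at h2; rw [h2]
  · simp [pexp, Finsupp.single_apply] at h2 h3
    split_ifs at h2 h3 <;> simp_all
  · have hy := DFunLike.congr_fun h y; simp [pexp] at hy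
  · simp [pexp, Finsupp.single_apply] at h2 h3
    split_ifs at h2 h3 <;> simp_all
  · simp only [pexp] at h
    rcases (Finsupp.single_eq_single_iff _ _ _ _).1 h with ⟨h₁, h₂⟩ | ⟨h₁, -⟩
    · obtain rfl := h₁
      rw [Nat.succ.inj h₂]
    · omega

/-- the monomials outside the staircase are independent modulo the cubic -/
theorem indep_cubic (a b c d : R) :
    LinearIndependent R (fun z : Option (ℕ ⊕ (CVar m × ℕ)) =>
      Ideal.Quotient.mk (Ideal.span {Cubic R m a b c d}) (pmon R m z)) := by
  classical
  nontriviality R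
  rw [linearIndependent_iff]
  intro l hl
  set L := Finsupp.linearCombination R (pmon R m) l with hL
  have hmem : L ∈ Ideal.span {Cubic R m a b c d} := by
    rw [← Ideal.Quotient.eq_zero_iff_mem, ← hl, hL]
    exact Finsupp.apply_linearCombination R (Ideal.Quotient.mkₐ R _).toLinearMap (pmon R m) l
  obtain ⟨Q, hQ⟩ := Ideal.mem_span_singleton'.1 hmem
  have hcoeff : ∀ z, coeff (pexp m z) L = l z := by
    intro z
    rw [hL, Finsupp.linearCombination_apply, Finsupp.sum, ← lcoeff_apply R, map_sum,
      Finset.sum_eq_single z]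
    · simp [pmon_eq]
    · intro w _ hw
      simp [pmon_eq, coeff_monomial, pexp_injective.ne hw]
    · intro hz
      simp [Finsupp.notMem_support_iff.1 hz]
  have hzero : ∀ e : CVar m →₀ ℕ, 1 ≤ e .x2 → 2 ≤ e .x3 → coeff e L = 0 := by
    intro e h1 h2
    rw [hL, Finsupp.linearCombination_apply, Finsupp.sum, ← lcoeff_apply R, map_sum]
    refine Finset.sum_eq_zero fun w _ => ?_
    have hne : pexp m w ≠ e := fun h => pexp_not_top w (by rw [h]; exact ⟨h1, h2⟩)
    simp [pmon_eq, coeff_monomial, hne]
  have hQ0 : Q = 0 := by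
    by_contra hne
    obtain ⟨q, hq, hmax⟩ := Finset.exists_max_image Q.support (fun e => e .x3)
      (MvPolynomial.support_nonempty.2 hne)
    let e0 : CVar m →₀ ℕ := Finsupp.single .x2 1 + Finsupp.single .x3 2
    let rest : MvPolynomial (CVar m) R :=
      X .x2 ^ 2 * X .x3 + (C a * X .x2 * X .x3 + C b * X .x2 + C c * X .x3 + C d)
    have hC : Cubic R m a b c d = monomial e0 1 - rest := by
      have : (monomial e0 (1 : R)) = X .x2 * X .x3 ^ 2 := by
        rw [X_pow_eq_monomial, X, monomial_mul, mul_one]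
      rw [this, Cubic]
      simp only [rest]
      ring
    have hdeg : degreeOf .x3 rest ≤ 1 := by
      have h23 : degreeOf CVar.x3 (X CVar.x2 : MvPolynomial (CVar m) R) = 0 :=
        degreeOf_X_of_ne (by simp)
      have h33 : degreeOf CVar.x3 (X CVar.x3 : MvPolynomial (CVar m) R) = 1 := degreeOf_X_self _
      refine (degreeOf_add_le _ _ _).trans (max_le ?_ ((degreeOf_add_le _ _ _).trans (max_le
        ((degreeOf_add_le _ _ _).trans (max_le ((degreeOf_add_le _ _ _).trans (max_le ?_ ?_)) ?_)) ?_)))
      · refine (degreeOf_mul_le _ _ _).trans ?_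
        have := degreeOf_pow_le CVar.x3 (X CVar.x2 : MvPolynomial (CVar m) R) 2
        rw [h23] at this
        omega
      · refine (degreeOf_mul_le _ _ _).trans ?_
        have := degreeOf_mul_le CVar.x3 (C a : MvPolynomial (CVar m) R) (X CVar.x2)
        rw [degreeOf_C, h23] at this
        omega
      · refine (degreeOf_mul_le _ _ _).trans ?_
        rw [degreeOf_C, h23]
        omega
      · refine (degreeOf_mul_le _ _ _).trans ?_
        rw [degreeOf_C, h33]
      · rw [degreeOf_C]
        omega
    have hQdeg : degreeOf .x3 Q ≤ q .x3 := by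
      rw [degreeOf_eq_sup]
      exact Finset.sup_le hmax
    have h1 : coeff (q + e0) L = coeff q Q := by
      rw [← hQ, hC, mul_sub, coeff_sub, coeff_mul_monomial, mul_one]
      have : coeff (q + e0) (Q * rest) = 0 := by
        by_contra h
        have hle := monomial_le_degreeOf CVar.x3 (MvPolynomial.mem_support_iff.2 h)
        have := degreeOf_mul_le CVar.x3 Q rest
        have e : (q + e0) .x3 = q .x3 + 2 := by simp [e0]
        omega
      rw [this, sub_zero]
    rw [hzero _ (by simp [e0]) (by simp [e0])] at h1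
    exact MvPolynomial.mem_support_iff.1 hq h1.symm
  ext z
  rw [← hcoeff z, ← hQ, hQ0, zero_mul, coeff_zero, Finsupp.zero_apply]

end Groth.Agent.UCurves
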