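/-
The twisted derivation attached to a point of U_n.
-/
import Groth.Agent.UCurves.Basic
import Groth.Agent.UCurves.Twist
import Groth.Prelude.Def_W4c5m1nsnscurvesI
import Mathlib.Algebra.MvPolynomial.Degrees
import Mathlib.Algebra.MvPolynomial.Equiv
import Mathlib.LinearAlgebra.LinearIndependent.Lemmas

universe u

open MvPolynomial W4c5m1nsnscurves

namespace Groth.Agent.UCurves

variable {R : Type u} [CommRing R] {m : ℕ}

/-- the assignment restricted to the first `m` indices -/
def res (v : UGen (m + 1) → R) : UGen m → R := fun g => v g.castSucc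

theorem IsU.res {v : UGen (m + 1) → R} (h : IsU v) : IsU (res v) where
  lin i j hij := h.lin i.castSucc j.castSucc (fun e => hij (Fin.castSucc_injective _ e))
  qc i j hij := h.qc i.castSucc j.castSucc (fun e => hij (Fin.castSucc_injective _ e))
  qb i j hij := h.qb i.castSucc j.castSucc (fun e => hij (Fin.castSucc_injective _ e))
  cubic i j l hij hjl hil := h.cubic i.castSucc j.castSucc l.castSucc
    (fun e => hij (Fin.castSucc_injective _ e)) (fun e => hjl (Fin.castSucc_injective _ e))
    (fun e => hil (Fin.castSucc_injective _ e))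

/-- values of the coordinates at the new point -/
def wVal (v : UGen (m + 1) → R) : CVar m → R
  | .x2 => v (.ci (Fin.last m))
  | .x3 => capA v (Fin.last m)
  | .xi i => v (.cij i.castSucc (Fin.last m) (Fin.castSucc_lt_last i).ne)

/-- products of the new coordinate with the old ones, after subtracting the values -/
noncomputable def dVal (v : UGen (m + 1) → R) (d : R) : CVar m → Ext (res v) d
  | .x2 => g (res v) d .x2 * g (res v) d .x3 + k (res v) d (v (.cbi (Fin.last m))) * g (res v) d .x2 -
      k (res v) d (v .c)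
  | .x3 => g (res v) d .x2 * g (res v) d .x3 - k (res v) d (capA v (Fin.last m)) * k (res v) d (v (.cbi (Fin.last m))) +
      k (res v) d (v .cb) - k (res v) d (v .c)
  | .xi i => g (res v) d .x2 * g (res v) d .x3 +
      k (res v) d (v (.cij (Fin.last m) i.castSucc (Fin.castSucc_lt_last i).ne')) * g (res v) d (.xi i) -
      k (res v) d (v .c)

/-- twisted derivation attached to the new point -/
theorem exists_point_twist (v : UGen (m + 1) → R) (hv : IsU v) (d : R)
    (hd : dAt v (Fin.last m) = d) :
    ∃ T : Twist R (Ext (res v) d),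
      (∀ x, T.φ (g (res v) d x) = wVal v x) ∧ ∀ x, T.D (g (res v) d x) = dVal v d x := by
  classical
  set n := Fin.last m with hn
  have hne : ∀ i : Fin m, i.castSucc ≠ n := fun i => (Fin.castSucc_lt_last i).ne
  have hne2 : ∀ i j : Fin m, i ≠ j → i.castSucc ≠ j.castSucc :=
    fun i j h e => h (Fin.castSucc_injective _ e)
  have hdn := congrArg (k (res v) d) hd
  simp only [dAt, capA, map_add, map_sub, map_mul, map_neg] at hdn
  have U1 : ∀ (i j : Fin (m + 1)) (h : i ≠ j), (k (res v) d) (v (.cij i j h)) + (k (res v) d) (v (.cij j i (Ne.symm h))) -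
      ((k (res v) d) (v .a) + (k (res v) d) (v (.ci i)) + (k (res v) d) (v (.cbi i)) + (k (res v) d) (v (.ci j)) + (k (res v) d) (v (.cbi j))) = 0 := fun i j h => by
    have := congrArg (k (res v) d) (hv.lin i j h)
    simpa only [map_add, map_sub, map_mul, map_zero] using this
  have U2 : ∀ (i j : Fin (m + 1)) (h : i ≠ j), (k (res v) d) (v (.cij j i (Ne.symm h))) * (k (res v) d) (v (.ci j)) +
      (k (res v) d) (v (.cij i j h)) * (k (res v) d) (v (.ci i)) - (k (res v) d) (v (.ci i)) * (k (res v) d) (v (.ci j)) - (k (res v) d) (v .c) = 0 := fun i j h => by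
    have := congrArg (k (res v) d) (hv.qc i j h)
    simpa only [map_add, map_sub, map_mul, map_zero] using this
  have U3 : ∀ (i j : Fin (m + 1)) (h : i ≠ j), (k (res v) d) (v (.cij j i (Ne.symm h))) * (k (res v) d) (v (.cbi i)) +
      (k (res v) d) (v (.cij i j h)) * (k (res v) d) (v (.cbi j)) - (k (res v) d) (v (.cbi i)) * (k (res v) d) (v (.cbi j)) - (k (res v) d) (v .cb) = 0 := fun i j h => by
    have := congrArg (k (res v) d) (hv.qb i j h)
    simpa only [map_add, map_sub, map_mul, map_zero] using this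
  have U4 : ∀ (i j l : Fin (m + 1)) (hij : i ≠ j) (hjl : j ≠ l) (hil : i ≠ l),
      (k (res v) d) (v (.cij i j hij)) * (k (res v) d) (v (.cij j l hjl)) + (k (res v) d) (v (.cij j i (Ne.symm hij))) * (k (res v) d) (v (.cij i l hil)) -
      (k (res v) d) (v (.cij i l hil)) * (k (res v) d) (v (.cij j l hjl)) +
      ((k (res v) d) (v .a) + (k (res v) d) (v (.ci l)) + (k (res v) d) (v (.cbi l))) * (k (res v) d) (v (.ci l)) - (k (res v) d) (v .c) = 0 := fun i j l h1 h2 h3 => by
    have := congrArg (k (res v) d) (hv.cubic i j l h1 h2 h3)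
    simpa only [map_add, map_sub, map_mul, map_zero] using this
  set x2 := g (res v) d .x2 with hx2
  set x3 := g (res v) d .x3 with hx3
  have hE : x2 * x3 ^ 2 - x2 ^ 2 * x3 - ((k (res v) d) (v .a) * x2 * x3 + ((k (res v) d) (v .cb) - (k (res v) d) (v .c)) * x2 +
      (k (res v) d) (v .c) * x3 + (k (res v) d) d) = 0 := by
    have := relE (res v) d
    simpa only [map_sub, res, UGen.castSucc] using this
  have h2 : ∀ i : Fin m, x2 * g (res v) d (.xi i) - (x2 * x3 + (k (res v) d) (v (.ci i.castSucc)) * g (res v) d (.xi i) +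
      (k (res v) d) (v (.cbi i.castSucc)) * x2 - (k (res v) d) (v .c)) = 0 := fun i => rel2 (res v) d i
  have h3 : ∀ i : Fin m, x3 * g (res v) d (.xi i) - (x2 * x3 +
      ((k (res v) d) (v .a) + (k (res v) d) (v (.ci i.castSucc)) + (k (res v) d) (v (.cbi i.castSucc))) * (g (res v) d (.xi i) - (k (res v) d) (v (.cbi i.castSucc))) +
      (k (res v) d) (v .cb) - (k (res v) d) (v .c)) = 0 := fun i => by
    have := rel3 (res v) d i
    simpa only [capA, map_add, res, UGen.castSucc] using this
  have hij' : ∀ (i j : Fin m) (h : i ≠ j), g (res v) d (.xi i) * g (res v) d (.xi j) - (x2 * x3 +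
      (k (res v) d) (v (.cij i.castSucc j.castSucc (hne2 i j h))) * g (res v) d (.xi j) +
      (k (res v) d) (v (.cij j.castSucc i.castSucc (Ne.symm (hne2 i j h)))) * g (res v) d (.xi i) - (k (res v) d) (v .c)) = 0 :=
    fun i j h => relij (res v) d i j h
  refine exists_twist (extRel (res v) d) (wVal v) (dVal v d) ?_ ?_ ?_
  · -- symmetry
    have s23 : (x2 - (k (res v) d) (wVal v .x2)) * dVal v d .x3 = (x3 - (k (res v) d) (wVal v .x3)) * dVal v d .x2 := by
      simp only [wVal, dVal, capA, map_add, ← hx2, ← hx3, ← hn]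
      linear_combination (-(1 : Ext (res v) d)) * hE + (1 : Ext (res v) d) * hdn
    have s2i : ∀ i, (x2 - (k (res v) d) (wVal v .x2)) * dVal v d (.xi i) =
        (g (res v) d (.xi i) - (k (res v) d) (wVal v (.xi i))) * dVal v d .x2 := by
      intro i
      simp only [wVal, dVal, capA, map_add, ← hx2, ← hx3, ← hn]
      linear_combination (-((k (res v) d) (v .a)) - (k (res v) d) (v (.ci i.castSucc)) - (k (res v) d) (v (.cbi i.castSucc)) - (k (res v) d) (v (.cbi n)) +
          (k (res v) d) (v (.cij n i.castSucc (hne i).symm))) * h2 i +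
        (-((k (res v) d) (v .c)) + (k (res v) d) (v (.ci i.castSucc)) * g (res v) d (.xi i) + x2 * x3) * U1 _ _ (hne i) +
        x2 * U3 _ _ (hne i) + (-(g (res v) d (.xi i))) * U2 _ _ (hne i) + (-x2) * h3 i
    have s3i : ∀ i, (x3 - (k (res v) d) (wVal v .x3)) * dVal v d (.xi i) =
        (g (res v) d (.xi i) - (k (res v) d) (wVal v (.xi i))) * dVal v d .x3 := by
      intro i
      simp only [wVal, dVal, capA, map_add, ← hx2, ← hx3, ← hn]
      linear_combination (-x3) * h2 i +
        (-((k (res v) d) (v (.ci i.castSucc))) + (k (res v) d) (v (.cij n i.castSucc (hne i).symm))) * h3 i +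
        (-((k (res v) d) (v .c)) + (k (res v) d) (v .cb) - (k (res v) d) (v (.ci i.castSucc)) * (k (res v) d) (v (.cbi i.castSucc)) +
          (k (res v) d) (v (.ci i.castSucc)) * g (res v) d (.xi i) + (k (res v) d) (v (.cbi i.castSucc)) * (k (res v) d) (v (.cbi n)) -
          (k (res v) d) (v (.cbi n)) * g (res v) d (.xi i) + x2 * x3) * U1 _ _ (hne i) +
        (-((k (res v) d) (v .a)) - (k (res v) d) (v (.ci n)) - (k (res v) d) (v (.cbi i.castSucc)) - (k (res v) d) (v (.cbi n)) + g (res v) d (.xi i)) *
          U3 _ _ (hne i) +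
        ((k (res v) d) (v (.cbi i.castSucc)) - g (res v) d (.xi i)) * U2 _ _ (hne i)
    have sij : ∀ i j, (g (res v) d (.xi i) - (k (res v) d) (wVal v (.xi i))) * dVal v d (.xi j) =
        (g (res v) d (.xi j) - (k (res v) d) (wVal v (.xi j))) * dVal v d (.xi i) := by
      intro i j
      by_cases h : i = j
      · rw [h]
      simp only [wVal, dVal, ← hx2, ← hx3, ← hn]
      linear_combination (-((k (res v) d) (v (.cij n i.castSucc (hne i).symm))) + (k (res v) d) (v (.cij n j.castSucc (hne j).symm))) * hij' i j h +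
        (-((k (res v) d) (v .c)) + x2 * x3) * U1 _ _ (hne j) + ((k (res v) d) (v .c) - x2 * x3) * U1 _ _ (hne i) +
        g (res v) d (.xi i) * U4 j.castSucc n i.castSucc (hne j) (hne i).symm (hne2 j i (Ne.symm h)) +
        (-(g (res v) d (.xi j))) * U4 i.castSucc n j.castSucc (hne i) (hne j).symm (hne2 i j h) +
        (-x2) * h3 j + (-((k (res v) d) (v .a)) - (k (res v) d) (v (.ci j.castSucc)) - (k (res v) d) (v (.cbi j.castSucc))) * h2 j +
        x2 * h3 i + ((k (res v) d) (v .a) + (k (res v) d) (v (.ci i.castSucc)) + (k (res v) d) (v (.cbi i.castSucc))) * h2 i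
    intro x y
    rcases x with _ | _ | i <;> rcases y with _ | _ | j
    · rfl
    · exact s23
    · exact s2i j
    · exact s23.symm
    · rfl
    · exact s3i j
    · exact (s2i i).symm
    · exact (s3i i).symm
    · exact sij i j
  · -- values
    intro p hp
    rcases hp with ((⟨i, rfl⟩ | ⟨i, rfl⟩) | ⟨⟨⟨i, j⟩, h⟩, rfl⟩) | rfl
    · simp only [eval_sub, eval_add, eval_mul, eval_X, eval_C, wVal, capA, res, UGen.castSucc, ← hn]
      have L := hv.lin _ _ (hne i)
      have Q := hv.qc _ _ (hne i)
      linear_combination (v (.ci n)) * L + (-(1 : R)) * Q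
    · simp only [eval_sub, eval_add, eval_mul, eval_X, eval_C, wVal, capA, res, UGen.castSucc, ← hn]
      have L := hv.lin _ _ (hne i)
      have Q := hv.qc _ _ (hne i)
      have Qb := hv.qb _ _ (hne i)
      linear_combination (1 : R) * Qb + (v (.ci n) - v (.cbi i.castSucc)) * L + (-(1 : R)) * Q
    · have hh : i ≠ j := h
      simp only [eval_sub, eval_add, eval_mul, eval_X, eval_C, wVal, capA, res, UGen.castSucc, ← hn]
      linear_combination (-(1 : R)) * hv.cubic i.castSucc j.castSucc n (hne2 i j hh) (hne j) (hne i)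
    · simp only [Cubic, eval_sub, eval_add, eval_mul, eval_pow, eval_X, eval_C, wVal, capA, res, UGen.castSucc, ← hn]
      have hd' := hd
      simp only [dAt, capA] at hd'
      linear_combination (1 : R) * hd'
  · -- the derivation
    intro D hmul hC hX p hp
    have hXX : ∀ x y : CVar m, D (X x * X y) = g (res v) d x * dVal v d y + (k (res v) d) (wVal v y) * dVal v d x := by
      intro x y
      rw [hmul, hX, hX, eval_X]
      rfl
    have hCX : ∀ (r : R) (y : CVar m), D (C r * X y) = (k (res v) d) r * dVal v d y := by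
      intro r y
      rw [hmul, hX, hC, mul_zero, add_zero]
      rfl
    have hCC : ∀ r r' : R, D (C r * C r') = 0 := by
      intro r r'
      rw [← C_mul, hC]
    have hgm : ∀ y, Ideal.Quotient.mk (Ideal.span (extRel (res v) d)) (X y) = g (res v) d y := fun y => rfl
    rcases hp with ((⟨i, rfl⟩ | ⟨i, rfl⟩) | ⟨⟨⟨i, j⟩, h⟩, rfl⟩) | rfl
    · simp only [map_sub, map_add, hXX, hCX, hC, wVal, dVal, capA, res, UGen.castSucc, ← hx2, ← hx3, ← hn]
      linear_combination (k (res v) d) (v (.cij n i.castSucc (hne i).symm)) * h2 i +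
        (-((k (res v) d) (v .c)) + x2 * x3) * U1 _ _ (hne i) + x2 * U3 _ _ (hne i)
    · simp only [mul_sub, add_mul, hCC, map_sub, map_add, hXX, hCX, hC, wVal, dVal, capA, res, UGen.castSucc, ← hx2, ← hx3, ← hn]
      linear_combination (-((k (res v) d) (v (.ci i.castSucc))) + (k (res v) d) (v (.cij n i.castSucc (hne i).symm)) + x2) * h3 i +
        (-((k (res v) d) (v .c)) + (k (res v) d) (v .cb) - (k (res v) d) (v (.ci i.castSucc)) * (k (res v) d) (v (.cbi i.castSucc)) +
          (k (res v) d) (v (.cbi i.castSucc)) * (k (res v) d) (v (.cbi n)) + x2 * x3) * U1 _ _ (hne i) +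
        (-((k (res v) d) (v .a)) - (k (res v) d) (v (.ci n)) - (k (res v) d) (v (.cbi i.castSucc)) - (k (res v) d) (v (.cbi n))) * U3 _ _ (hne i) +
        ((k (res v) d) (v .a) + (k (res v) d) (v (.ci i.castSucc)) + (k (res v) d) (v (.cbi i.castSucc)) - x3) * h2 i +
        (k (res v) d) (v (.cbi i.castSucc)) * U2 _ _ (hne i)
    · have hh : i ≠ j := h
      simp only [map_sub, map_add, hXX, hCX, hC, wVal, dVal, capA, res, UGen.castSucc, ← hx2, ← hx3, ← hn]
      linear_combination (-((k (res v) d) (v (.ci j.castSucc))) + (k (res v) d) (v (.cij n j.castSucc (hne j).symm)) + x2) * hij' i j hh +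
        (-((k (res v) d) (v .c)) + x2 * x3) * U1 _ _ (hne j) +
        g (res v) d (.xi i) * U4 j.castSucc n i.castSucc (hne j) (hne i).symm (Ne.symm (hne2 i j hh)) +
        (-((k (res v) d) (v (.cbi j.castSucc))) + (k (res v) d) (v (.cij j.castSucc i.castSucc (Ne.symm (hne2 i j hh))))) * h2 i +
        ((k (res v) d) (v (.cij i.castSucc j.castSucc (hne2 i j hh))) - g (res v) d (.xi i)) * h2 j +
        x2 * U3 _ _ (hne2 i j hh) + (-(g (res v) d (.xi i))) * U2 _ _ (hne2 i j hh) +
        ((k (res v) d) (v (.ci i.castSucc)) * g (res v) d (.xi i)) * U1 _ _ (hne2 i j hh)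
    · simp only [Cubic, sq, hmul, map_sub, map_add, hX, hC, eval_mul, eval_X, eval_C, map_mul, mk_C, hgm,
        wVal, dVal, capA, res, UGen.castSucc, ← hx2, ← hx3, ← hn]
      change _ = (0 : Ext (res v) d)
      linear_combination x2 * hE + (-x2) * hdn

end Groth.Agent.UCurves
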