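/-
Linear independence of the monomial family on the affine curves over U_n.
-/
import Groth.Agent.UCurves.Cubic
import Groth.Agent.UCurves.PointTwist
import Groth.Prelude.Def_W4c5m1nsnscurvesI
import Mathlib.Algebra.MvPolynomial.Degrees
import Mathlib.Algebra.MvPolynomial.Equiv
import Mathlib.LinearAlgebra.LinearIndependent.Lemmas

universe u

open MvPolynomial W4c5m1nsnscurves

namespace Groth.Agent.UCurves

variable {R : Type u} [CommRing R] {m : ℕ}

/-- index map for the monomial families -/
def idx (m : ℕ) : Option (ℕ ⊕ (CVar (m + 1) × ℕ)) → Option (ℕ ⊕ (CVar m × ℕ)) ⊕ ℕ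
  | none => Sum.inl none
  | some (Sum.inl k) => Sum.inl (some (Sum.inl k))
  | some (Sum.inr (.x2, k)) => Sum.inl (some (Sum.inr (.x2, k)))
  | some (Sum.inr (.x3, k)) => Sum.inl (some (Sum.inr (.x3, k)))
  | some (Sum.inr (.xi i, k)) =>
    if h : i = Fin.last m then Sum.inr k else Sum.inl (some (Sum.inr (.xi (i.castPred h), k)))

theorem idx_injective (m : ℕ) : Function.Injective (idx m) := by
  intro z w h
  rcases z with _ | ⟨n | ⟨_ | _ | i, n⟩⟩ <;> rcases w with _ | ⟨n' | ⟨_ | _ | j, n'⟩⟩ <;>
    simp only [idx] at h <;> (try split_ifs at h with h1 h2) <;> simp_all [Fin.castPred_inj]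

/-- the new coordinates as polynomials over the old curve -/
noncomputable def lift (v : UGen (m + 1) → R) (d : R) : CVar (m + 1) → Polynomial (Ext (res v) d)
  | .x2 => Polynomial.C (g (res v) d .x2)
  | .x3 => Polynomial.C (g (res v) d .x3)
  | .xi i => if h : i = Fin.last m then Polynomial.X else Polynomial.C (g (res v) d (.xi (i.castPred h)))

theorem new_rel3 {S : Type u} [Ring S] (A X e p q r : S) :
    A * X + (p - A * e + q - r) - (p + A * (X - e) + q - r) = 0 := by
  rw [mul_sub]
  abel

set_option maxHeartbeats 1000000 in
/-- one step: adjoining a point keeps the monomial family independent -/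
theorem indep_succ (v : UGen (m + 1) → R) (hv : IsU v) (d : R) (hd : dAt v (Fin.last m) = d)
    (ih : LinearIndependent R (mon (res v) d)) : LinearIndependent R (mon v d) := by
  classical
  obtain ⟨T, hφ, hD⟩ := exists_point_twist v hv d hd
  let κ : R →+* Ext (res v) d := k (res v) d
  let Ψ : MvPolynomial (CVar (m + 1)) R →ₐ[R] Polynomial (Ext (res v) d) := aeval (lift v d)
  let Θ : MvPolynomial (CVar (m + 1)) R →+* Module.End R (Ext (res v) d × (ℕ →₀ R)) :=
    T.eval.comp Ψ.toRingHom
  have hlast : lift v d (.xi (Fin.last m)) = Polynomial.X := by simp [lift]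
  have hold : ∀ i : Fin m, lift v d (.xi i.castSucc) = Polynomial.C (g (res v) d (.xi i)) := by
    intro i
    simp [lift, (Fin.castSucc_lt_last i).ne]
  have hk : ∀ r, T.op (κ r) = algebraMap R _ r := fun r => T.op.commutes r
  have hΘC : ∀ r, Θ (C r) = algebraMap R _ r := by
    intro r
    change T.eval (Ψ (C r)) = _
    rw [← hk, ← T.eval_C]
    congr 1
    exact Ψ.commutes r
  have hΘX : ∀ y, Θ (X y) = T.eval (lift v d y) := by
    intro y
    change T.eval (Ψ (X y)) = _
    rw [show Ψ (X y) = lift v d y from aeval_X _ _]
  have hnew : ∀ y : CVar m, T.op (g (res v) d y) * T.X = algebraMap R _ (wVal v y) * T.X + T.op (dVal v d y) := by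
    intro y
    rw [T.op_mul_X, hφ, hD, Algebra.algebraMap_eq_smul_one, smul_mul_assoc, one_mul]
  have hΘp : ∀ p ∈ extRel v d, Θ p = 0 := by
    intro p hp
    rcases hp with ((⟨i, rfl⟩ | ⟨i, rfl⟩) | ⟨⟨⟨i, j⟩, h⟩, rfl⟩) | rfl
    · simp only [map_sub, map_add, map_mul, hΘX, hΘC]
      induction i using Fin.lastCases with
      | last =>
        rw [hlast]
        simp only [lift, T.eval_C, T.eval_X, hnew, dVal, wVal, map_sub, map_add, map_mul]
        simp only [hk, κ]
        abel
      | cast i =>
        rw [hold]
        simp only [lift, T.eval_C, ← hk, ← map_mul, ← map_add, ← map_sub]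
        exact (congrArg T.op (rel2 (res v) d i)).trans (map_zero _)
    · simp only [map_sub, map_add, map_mul, hΘX, hΘC]
      induction i using Fin.lastCases with
      | last =>
        rw [hlast]
        simp only [lift, T.eval_C, T.eval_X, hnew, dVal, wVal, capA, map_sub, map_add, map_mul, mul_sub]
        simp only [hk, κ, map_add]
        exact new_rel3 (S := Module.End R (Ext (res v) d × (ℕ →₀ R))) _ _ _ _ _ _
      | cast i =>
        rw [hold]
        simp only [lift, T.eval_C, ← hk, ← map_mul, ← map_add, ← map_sub]
        have := rel3 (res v) d i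
        simp only [capA, map_add] at this
        refine (congrArg T.op ?_).trans (map_zero _)
        simp only [map_add, map_sub, map_mul]
        exact this
    · simp only [map_sub, map_add, map_mul, hΘX, hΘC]
      revert h
      induction i using Fin.lastCases with
      | last =>
        induction j using Fin.lastCases with
        | last => exact fun hh => absurd rfl hh
        | cast j =>
          intro _
          rw [hlast, hold]
          simp only [lift, T.eval_C, T.eval_X]
          rw [T.X_op, hnew]
          simp only [dVal, wVal, map_sub, map_add, map_mul]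
          simp only [hk, κ]
          abel
      | cast i =>
        induction j using Fin.lastCases with
        | last =>
          intro _
          rw [hlast, hold]
          simp only [lift, T.eval_C, T.eval_X]
          rw [hnew]
          simp only [dVal, wVal, map_sub, map_add, map_mul]
          simp only [hk, κ]
          abel
        | cast j =>
          intro hh
          rw [hold, hold]
          simp only [lift, T.eval_C, ← hk, ← map_mul, ← map_add, ← map_sub]
          exact (congrArg T.op (relij (res v) d i j (fun e => hh (by rw [e])))).trans (map_zero _)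
    · simp only [Cubic, map_sub, map_add, map_mul, map_pow, hΘX, hΘC]
      simp only [lift, T.eval_C, ← hk, ← map_mul, ← map_pow, ← map_add, ← map_sub]
      refine (congrArg T.op ?_).trans (map_zero _)
      exact relE (res v) d
  let e : (Ext (res v) d) × (ℕ →₀ R) := (1, 0)
  let L0 : MvPolynomial (CVar (m + 1)) R →ₗ[R] Ext (res v) d × (ℕ →₀ R) :=
    { toFun := fun p => Θ p e
      map_add' := fun p q => by simp
      map_smul' := fun r p => by
        rw [MvPolynomial.smul_eq_C_mul, map_mul, hΘC, Module.End.mul_apply,
          Module.algebraMap_end_apply, RingHom.id_apply] }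
  have hL0 : (Ideal.span (extRel v d)).restrictScalars R ≤ LinearMap.ker L0 := by
    intro p hp
    have : Θ p = 0 := (Ideal.span_le (I := RingHom.ker Θ)).2 hΘp hp
    simp [L0, this]
  let L : Ext v d →ₗ[R] Ext (res v) d × (ℕ →₀ R) :=
    (Submodule.liftQ ((Ideal.span (extRel v d)).restrictScalars R) L0 hL0).comp
      (Submodule.Quotient.restrictScalarsEquiv R (Ideal.span (extRel v d))).symm.toLinearMap
  have hLmk : ∀ p, L (Ideal.Quotient.mk (Ideal.span (extRel v d)) p) = L0 p := by
    intro p
    change Submodule.liftQ _ L0 hL0 ((Submodule.Quotient.restrictScalarsEquiv R (Ideal.span (extRel v d))).symm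
      (Submodule.Quotient.mk p)) = L0 p
    rw [Submodule.Quotient.restrictScalarsEquiv_symm_mk, Submodule.liftQ_apply]
  have hop : ∀ a, T.op a e = (a, 0) := fun a => by rw [T.op_inl, mul_one]
  refine LinearIndependent.of_comp L ?_
  have hfam : (L ∘ mon v d) = (Sum.elim (LinearMap.inl R _ (ℕ →₀ R) ∘ mon (res v) d)
      (LinearMap.inr R (Ext (res v) d) _ ∘ fun n => Finsupp.single n (1 : R))) ∘ idx m := by
    funext z
    rw [Function.comp_apply, mon, hLmk]
    change Θ (pmon R (m + 1) z) e = _
    rcases z with _ | ⟨n | ⟨_ | _ | i, n⟩⟩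
    · simp only [pmon, map_one, Module.End.one_apply]
      simp [idx, mon, pmon, e]
    · rw [pmon, map_mul, map_pow, hΘX, hΘX]
      simp only [lift, T.eval_C]
      rw [← map_pow, ← map_mul, hop]
      simp [idx, mon, pmon, g]
    · rw [pmon, map_pow, hΘX]
      simp only [lift, T.eval_C]
      rw [← map_pow, hop]
      simp [idx, mon, pmon, g]
    · rw [pmon, map_pow, hΘX]
      simp only [lift, T.eval_C]
      rw [← map_pow, hop]
      simp [idx, mon, pmon, g]
    · simp only [pmon, map_pow, hΘX]
      induction i using Fin.lastCases with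
      | last =>
        rw [hlast, T.eval_X, T.X_pow_one]
        simp [idx]
      | cast i =>
        rw [hold, T.eval_C, ← map_pow, hop]
        simp [idx, mon, pmon, g, (Fin.castSucc_lt_last i).ne]
  rw [hfam]
  exact (linearIndependent_inl_union_inr' ih (Finsupp.basisSingleOne (R := R)).linearIndependent).comp
    _ (idx_injective m)

/-- the monomial family is independent on the curve over every point of `U_n` -/
theorem indep : ∀ (m : ℕ) (v : UGen m → R), IsU v → ∀ d, (∀ i, dAt v i = d) →
    LinearIndependent R (mon v d)
  | 0, v, _, d, _ => by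
    have he : extRel v d = {Cubic R 0 (v .a) (v .cb - v .c) (v .c) d} := by
      have : CRel R 0 v = ∅ := by simp [CRel, Set.range_eq_empty]
      rw [extRel, this, Set.empty_union]
    have key : ∀ s : Set (MvPolynomial (CVar 0) R), s = {Cubic R 0 (v .a) (v .cb - v .c) (v .c) d} →
        LinearIndependent R (fun z => Ideal.Quotient.mk (Ideal.span s) (pmon R 0 z)) := by
      rintro s rfl
      exact indep_cubic _ _ _ _
    exact key _ he
  | m + 1, v, hv, d, hd =>
    indep_succ v hv d (hd _) (indep m (res v) hv.res d fun i => hd i.castSucc)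

end Groth.Agent.UCurves
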