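/-
The monomial family on the curve algebra is a basis exactly over the points of U_n.
-/
import Groth.Agent.UCurves.Indep
import Mathlib.Data.Fin.VecNotation
import Mathlib.LinearAlgebra.LinearIndependent.Defs

universe u

open MvPolynomial W4c5m1nsnscurves

namespace Groth.Agent.UCurves

variable {R : Type u} [CommRing R] {m : ℕ}

theorem cubic_mem (v : UGen m → R) (i : Fin m) :
    Cubic R m (v .a) (v .cb - v .c) (v .c) (dAt v i) ∈ Ideal.span (CRel R m v) := by
  have h2 : Ideal.Quotient.mk (Ideal.span (CRel R m v)) (X .x2 * X (.xi i) -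
      (X .x2 * X .x3 + C (v (.ci i)) * X (.xi i) + C (v (.cbi i)) * X .x2 - C (v .c))) = 0 :=
    Ideal.Quotient.eq_zero_iff_mem.2 (Ideal.subset_span (Or.inl (Or.inl ⟨i, rfl⟩)))
  have h3 : Ideal.Quotient.mk (Ideal.span (CRel R m v)) (X .x3 * X (.xi i) -
      (X .x2 * X .x3 + C (v .a + v (.ci i) + v (.cbi i)) * (X (.xi i) - C (v (.cbi i))) +
        C (v .cb) - C (v .c))) = 0 :=
    Ideal.Quotient.eq_zero_iff_mem.2 (Ideal.subset_span (Or.inl (Or.inr ⟨i, rfl⟩)))
  rw [← Ideal.Quotient.eq_zero_iff_mem]
  simp only [Cubic, dAt, capA, map_sub, map_add, map_mul, map_neg, map_pow] at h2 h3 ⊢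
  set q := Ideal.Quotient.mk (Ideal.span (CRel R m v))
  linear_combination (-(q (C (v (.ci i)))) + q (X .x2)) * h3 +
    (q (C (v .a)) + q (C (v (.ci i))) + q (C (v (.cbi i))) - q (X .x3)) * h2

theorem span_extRel (v : UGen m → R) (i : Fin m) :
    Ideal.span (extRel v (dAt v i)) = Ideal.span (CRel R m v) := by
  rw [extRel, Ideal.span_union, sup_eq_left, Ideal.span_singleton_le_iff_mem]
  exact cubic_mem v i

theorem cmon_indep_iff (v : UGen m → R) (i : Fin m) :
    LinearIndependent R (cmon R m v) ↔ LinearIndependent R (mon v (dAt v i)) := by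
  have key : ∀ I : Ideal (MvPolynomial (CVar m) R), I = Ideal.span (CRel R m v) →
      (LinearIndependent R (cmon R m v) ↔
        LinearIndependent R (fun z => Ideal.Quotient.mk I (pmon R m z))) := by
    rintro I rfl
    rw [show cmon R m v = fun z => Ideal.Quotient.mk (Ideal.span (CRel R m v)) (pmon R m z) from
      funext (cmon_eq v)]
  exact key _ (span_extRel v i)

theorem cmon_span (v : UGen m → R) (i : Fin m) : Submodule.span R (Set.range (cmon R m v)) = ⊤ := by
  have key : ∀ I : Ideal (MvPolynomial (CVar m) R), I = Ideal.span (CRel R m v) →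
      Submodule.span R (Set.range (fun z => Ideal.Quotient.mk I (pmon R m z))) = ⊤ →
      Submodule.span R (Set.range (cmon R m v)) = ⊤ := by
    rintro I rfl h
    rwa [show cmon R m v = fun z => Ideal.Quotient.mk (Ideal.span (CRel R m v)) (pmon R m z) from
      funext (cmon_eq v)]
  exact key _ (span_extRel v i) (span_mon v (dAt v i))

theorem smul_eq (v : UGen m → R) (d r : R) (x : Ext v d) : r • x = k v d r * x :=
  Algebra.smul_def r x

theorem coeff_zero_of_four {A : Type u} [AddCommGroup A] [Module R A]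
    {ι : Type} {f : ι → A} (hf : LinearIndependent R f) {a b c e : ι}
    (hab : a ≠ b) (hac : a ≠ c) (hae : a ≠ e) (hbc : b ≠ c) (hbe : b ≠ e) (hce : c ≠ e)
    {p q r s : R} (h : p • f a + q • f b + r • f c + s • f e = 0) : p = 0 ∧ q = 0 ∧ r = 0 ∧ s = 0 := by
  have hinj : Function.Injective ![a, b, c, e] := by
    intro x y hxy
    fin_cases x <;> fin_cases y <;> simp_all
  have := Fintype.linearIndependent_iff.1 (hf.comp _ hinj) ![p, q, r, s]
    (by simpa [Fin.sum_univ_four] using h)
  exact ⟨this 0, this 1, this 2, this 3⟩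

theorem isU_of_indep (v : UGen m → R) (h : LinearIndependent R (cmon R m v)) : IsU v := by
  classical
  have hpair : ∀ (i j : Fin m) (hij : i ≠ j),
      v (.cij i j hij) + v (.cij j i (Ne.symm hij)) -
          (v .a + v (.ci i) + v (.cbi i) + v (.ci j) + v (.cbi j)) = 0 ∧
        v .a * v (.ci j) - v .c + v (.ci i) * v (.cij i j hij) + v (.ci j) * v (.ci j) +
          v (.ci j) * v (.cbi i) + v (.ci j) * v (.cbi j) - v (.ci j) * v (.cij i j hij) = 0 ∧
        v (.cij j i (Ne.symm hij)) * v (.cbi i) + v (.cij i j hij) * v (.cbi j) -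
          v (.cbi i) * v (.cbi j) - v .cb = 0 := by
    intro i j hij
    have hd := (cmon_indep_iff v j).1 h
    set d := dAt v j with hdj
    have hEj : g v d .x2 * g v d .x3 ^ 2 - g v d .x2 ^ 2 * g v d .x3 -
        ((k v d) (v .a) * g v d .x2 * g v d .x3 + ((k v d) (v .cb) - (k v d) (v .c)) * g v d .x2 + (k v d) (v .c) * g v d .x3 +
          (k v d) d) = 0 := by
      have := relE v d
      simpa only [map_sub] using this
    have h3j := rel3 v d j
    simp only [capA, map_add] at h3j
    let cst : R := -(v .a * v (.ci j) * v (.cbi j)) - v .c * v (.ci i) - v .c * v (.ci j) - v .c * v (.cbi i) +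
      v .c * v (.cij i j hij) + v .c * v (.cij j i (Ne.symm hij)) + v .cb * v (.ci j) -
      v (.ci j) * v (.ci j) * v (.cbi j) - v (.ci j) * v (.cbi j) * v (.cbi j) + d
    have key : (-(v (.cij i j hij) + v (.cij j i (Ne.symm hij)) -
          (v .a + v (.ci i) + v (.cbi i) + v (.ci j) + v (.cbi j)))) • mon v d (some (Sum.inl 0)) +
        (v .a * v (.ci j) - v .c + v (.ci i) * v (.cij i j hij) + v (.ci j) * v (.ci j) +
          v (.ci j) * v (.cbi i) + v (.ci j) * v (.cbi j) - v (.ci j) * v (.cij i j hij)) •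
            mon v d (some (Sum.inr (.xi j, 0))) +
        (-(v (.cij j i (Ne.symm hij)) * v (.cbi i) + v (.cij i j hij) * v (.cbi j) -
          v (.cbi i) * v (.cbi j) - v .cb)) • mon v d (some (Sum.inr (.x2, 0))) +
        cst • mon v d none = 0 := by
      have e1 : mon v d (some (Sum.inl 0)) = g v d .x2 * g v d .x3 := by simp [mon, pmon, g]
      have e2 : mon v d (some (Sum.inr (.xi j, 0))) = g v d (.xi j) := by simp [mon, pmon, g]
      have e3 : mon v d (some (Sum.inr (.x2, 0))) = g v d .x2 := by simp [mon, pmon, g]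
      have e4 : mon v d none = 1 := by simp [mon, pmon]
      have hdκ := congrArg (k v d) hdj
      simp only [dAt, capA, map_add, map_sub, map_mul, map_neg] at hdκ
      simp only [e1, e2, e3, e4, smul_eq, cst, map_add, map_sub, map_mul, map_neg]
      linear_combination (-((k v d) (v (.ci i))) + g v d .x2) * relij v d i j hij +
        ((k v d) (v (.cij j i (Ne.symm hij))) - g v d (.xi j)) * rel2 v d i +
        (-((k v d) (v (.cbi i))) + (k v d) (v (.cij i j hij)) - g v d .x3) * rel2 v d j +
        (-(1 : Ext v d)) * hEj + (-((k v d) (v (.ci j)))) * h3j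
    obtain ⟨h1, h2, h3, -⟩ := coeff_zero_of_four hd (by simp) (by simp) (by simp) (by simp) (by simp) (by simp) key
    exact ⟨neg_eq_zero.1 h1, h2, neg_eq_zero.1 h3⟩
  refine ⟨fun i j hij => (hpair i j hij).1, fun i j hij => ?_, fun i j hij => (hpair i j hij).2.2, ?_⟩
  · obtain ⟨hL, hP, -⟩ := hpair i j hij
    linear_combination v (.ci j) * hL + hP
  intro i j n hij hjn hin
  have hd := (cmon_indep_iff v n).1 h
  set d := dAt v n with hdn
  have h3n := rel3 v d n
  have h3i := rel3 v d i
  simp only [capA, map_add] at h3n h3i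
  let cst : R := -(v .a * v (.ci i) * v (.cbi i)) + v .a * v (.ci n) * v (.cbi n) - v .c * v (.ci i) +
    v .c * v (.ci n) + v .c * v (.cij i j hij) + v .c * v (.cij j i (Ne.symm hij)) - v .c * v (.cij j n hjn) -
    v .c * v (.cij n j (Ne.symm hjn)) + v .cb * v (.ci i) - v .cb * v (.ci n) -
    v (.ci i) * v (.ci i) * v (.cbi i) - v (.ci i) * v (.cbi i) * v (.cbi i) +
    v (.ci n) * v (.ci n) * v (.cbi n) + v (.ci n) * v (.cbi n) * v (.cbi n)
  have key : (v (.ci i) - v (.ci n) + v (.cbi i) - v (.cbi n) - v (.cij i j hij) - v (.cij j i (Ne.symm hij)) +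
        v (.cij j n hjn) + v (.cij n j (Ne.symm hjn))) • mon v d (some (Sum.inl 0)) +
      (-(v (.cij i j hij) * v (.cij j n hjn) + v (.cij j i (Ne.symm hij)) * v (.cij i n hin) -
        v (.cij i n hin) * v (.cij j n hjn) + (v .a + v (.ci n) + v (.cbi n)) * v (.ci n) - v .c)) •
          mon v d (some (Sum.inr (.xi n, 0))) +
      (v .a * v (.ci i) - v .c + v (.ci i) * v (.ci i) + v (.ci i) * v (.cbi i) -
        v (.cij j i (Ne.symm hij)) * v (.cij n i (Ne.symm hin)) + v (.cij j i (Ne.symm hij)) * v (.cij n j (Ne.symm hjn)) +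
        v (.cij j n hjn) * v (.cij n i (Ne.symm hin))) • mon v d (some (Sum.inr (.xi i, 0))) +
      cst • mon v d none = 0 := by
    have e1 : mon v d (some (Sum.inl 0)) = g v d .x2 * g v d .x3 := by simp [mon, pmon, g]
    have e2 : ∀ l, mon v d (some (Sum.inr (.xi l, 0))) = g v d (.xi l) := by intro l; simp [mon, pmon, g]
    have e4 : mon v d none = 1 := by simp [mon, pmon]
    simp only [e1, e2, e4, smul_eq, cst, map_add, map_sub, map_mul, map_neg]
    linear_combination ((k v d) (v (.cij i j hij)) - g v d (.xi i)) * relij v d j n hjn +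
      (-((k v d) (v (.cij n j (Ne.symm hjn)))) + g v d (.xi n)) * relij v d i j hij +
      ((k v d) (v (.cij j i (Ne.symm hij))) - (k v d) (v (.cij j n hjn))) * relij v d i n hin +
      (k v d) (v (.ci n)) * h3n + g v d .x3 * rel2 v d n + (-(g v d .x3)) * rel2 v d i +
      (-((k v d) (v (.ci i)))) * h3i
  obtain ⟨-, h2, -, -⟩ := coeff_zero_of_four hd (by simp) (by simp) (by simp)
    (by simp [hin.symm]) (by simp) (by simp) key
  exact neg_eq_zero.1 h2

end Groth.Agent.UCurves
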