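/-
The coordinate ring of U_{n+1} as the curve algebra over the coordinate ring of U_n.
-/
import Groth.Agent.UCurves.Forward
import Mathlib.Tactic.LinearCombination

universe u

open MvPolynomial W4c5m1nsnscurves

namespace Groth.Agent.UCurves

/-- a valuation satisfying the equations kills the relations, over any coefficient map -/
theorem eval₂_URel {R : Type u} [CommRing R] {S : Type u} [CommRing S] {m : ℕ} (f : R →+* S)
    (w : UGen m → S) (h : IsU w) : ∀ p ∈ URel R m, eval₂Hom f w p = 0 := by
  intro p hp
  simp only [URel, Set.mem_union, Set.mem_range] at hp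
  rcases hp with ((⟨q, rfl⟩ | ⟨q, rfl⟩) | ⟨q, rfl⟩) | ⟨q, rfl⟩
  · simpa using h.lin q.1.1 q.1.2 q.2
  · simpa using h.qc q.1.1 q.1.2 q.2
  · simpa using h.qb q.1.1 q.1.2 q.2
  · simpa using h.cubic q.1.1 q.1.2.1 q.1.2.2 q.2.1 q.2.2.1 q.2.2.2

theorem isU_ugen (R : Type u) [CommRing R] (m : ℕ) : IsU (ugen R m) where
  lin i j h := by
    simpa [ugen] using Ideal.Quotient.eq_zero_iff_mem.2
      (Ideal.subset_span (s := URel R m) (Or.inl (Or.inl (Or.inl ⟨⟨(i, j), h⟩, rfl⟩))))
  qc i j h := by
    simpa [ugen] using Ideal.Quotient.eq_zero_iff_mem.2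
      (Ideal.subset_span (s := URel R m) (Or.inl (Or.inl (Or.inr ⟨⟨(i, j), h⟩, rfl⟩))))
  qb i j h := by
    simpa [ugen] using Ideal.Quotient.eq_zero_iff_mem.2
      (Ideal.subset_span (s := URel R m) (Or.inl (Or.inr ⟨⟨(i, j), h⟩, rfl⟩)))
  cubic i j l hij hjl hil := by
    simpa [ugen] using Ideal.Quotient.eq_zero_iff_mem.2
      (Ideal.subset_span (s := URel R m) (Or.inr ⟨⟨(i, j, l), hij, hjl, hil⟩, rfl⟩))

variable (R : Type u) [CommRing R] (m : ℕ)

theorem uincl_ugen (g : UGen m) : uincl R m (ugen R m g) = ugen R (m + 1) g.castSucc := by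
  change Ideal.Quotient.mk _ (rename UGen.castSucc (X g)) = _
  rw [rename_X]
  rfl

/-- the images of the coordinates of the curve -/
noncomputable def fwdVal : CVar m → URing R (m + 1)
  | .x2 => ugen R (m + 1) (.ci (Fin.last m))
  | .x3 => ugen R (m + 1) .a + ugen R (m + 1) (.ci (Fin.last m)) + ugen R (m + 1) (.cbi (Fin.last m))
  | .xi i => ugen R (m + 1) (.cij i.castSucc (Fin.last m) (Fin.castSucc_lt_last i).ne)

theorem fwd_CRel : ∀ p ∈ CRel (URing R m) m (ugen R m),
    eval₂Hom (uincl R m).toRingHom (fwdVal R m) p = 0 := by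
  intro p hp
  set n := Fin.last m
  have hne : ∀ i : Fin m, i.castSucc ≠ n := fun i => (Fin.castSucc_lt_last i).ne
  have hv := isU_ugen R (m + 1)
  rcases hp with (⟨i, rfl⟩ | ⟨i, rfl⟩) | ⟨⟨⟨i, j⟩, h⟩, rfl⟩
  · simp [fwdVal, uincl_ugen, UGen.castSucc]
    linear_combination ugen R (m + 1) (.ci n) * hv.lin _ _ (hne i) +
      (-(1 : URing R (m + 1))) * hv.qc _ _ (hne i)
  · simp [fwdVal, uincl_ugen, UGen.castSucc]
    linear_combination (1 : URing R (m + 1)) * hv.qb _ _ (hne i) +
      (ugen R (m + 1) (.ci n) - ugen R (m + 1) (.cbi i.castSucc)) * hv.lin _ _ (hne i) +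
      (-(1 : URing R (m + 1))) * hv.qc _ _ (hne i)
  · have hh : i ≠ j := h
    have hij : i.castSucc ≠ j.castSucc := fun e => hh (Fin.castSucc_injective _ e)
    simp [fwdVal, uincl_ugen, UGen.castSucc]
    linear_combination (-(1 : URing R (m + 1))) * hv.cubic i.castSucc j.castSucc n hij (hne j) (hne i)

/-- the coordinate ring of the curve over U_n -/
abbrev CR : Type u := CurveAlg (URing R m) m (ugen R m)

/-- the coordinates of the curve -/
noncomputable def y (z : CVar m) : CR R m :=
  Ideal.Quotient.mk (Ideal.span (CRel (URing R m) m (ugen R m))) (X z)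

/-- the scalars of the curve -/
noncomputable def s : URing R m →+* CR R m :=
  (Ideal.Quotient.mk (Ideal.span (CRel (URing R m) m (ugen R m)))).comp MvPolynomial.C

theorem s_eq (r : URing R m) : s R m r = algebraMap (URing R m) (CR R m) r := rfl

/-- the forward map -/
noncomputable def fwd : CR R m →+* URing R (m + 1) :=
  Ideal.Quotient.lift _ (eval₂Hom (uincl R m).toRingHom (fwdVal R m)) fun p hp =>
    (Ideal.span_le (I := RingHom.ker (eval₂Hom (uincl R m).toRingHom (fwdVal R m)))).2 (fwd_CRel R m) hp

theorem fwd_s (r : URing R m) : fwd R m (s R m r) = uincl R m r := by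
  change eval₂Hom _ _ (MvPolynomial.C r) = _
  simp

theorem fwd_y (z : CVar m) : fwd R m (y R m z) = fwdVal R m z := by
  change eval₂Hom _ _ (X z) = _
  simp

/-- the images of the generators of U_{n+1} -/
noncomputable def bwdVal : UGen (m + 1) → CR R m
  | .a => s R m (ugen R m .a)
  | .c => s R m (ugen R m .c)
  | .cb => s R m (ugen R m .cb)
  | .ci i => Fin.lastCases (y R m .x2) (fun i => s R m (ugen R m (.ci i))) i
  | .cbi i => Fin.lastCases (y R m .x3 - y R m .x2 - s R m (ugen R m .a))
      (fun i => s R m (ugen R m (.cbi i))) i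
  | .cij i j h =>
    if hi : i = Fin.last m then
      if hj : j = Fin.last m then absurd (hi.trans hj.symm) h
      else y R m .x3 + s R m (ugen R m (.ci (j.castPred hj))) + s R m (ugen R m (.cbi (j.castPred hj))) -
        y R m (.xi (j.castPred hj))
    else
      if hj : j = Fin.last m then y R m (.xi (i.castPred hi))
      else s R m (ugen R m (.cij (i.castPred hi) (j.castPred hj)
        fun e => h (by simpa using congrArg Fin.castSucc e)))

theorem bwdVal_old (g : UGen m) : bwdVal R m g.castSucc = s R m (ugen R m g) := by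
  cases g <;> simp [bwdVal, UGen.castSucc, (Fin.castSucc_lt_last _).ne]

theorem bwd_isU (hm : 1 ≤ m) : IsU (bwdVal R m) := by
  have hv := isU_ugen R m
  have o_a : bwdVal R m .a = s R m (ugen R m .a) := rfl
  have o_c : bwdVal R m .c = s R m (ugen R m .c) := rfl
  have o_cb : bwdVal R m .cb = s R m (ugen R m .cb) := rfl
  have o_ci : ∀ i, bwdVal R m (.ci (Fin.castSucc i)) = s R m (ugen R m (.ci i)) := fun i =>
    bwdVal_old R m (.ci i)
  have o_cbi : ∀ i, bwdVal R m (.cbi (Fin.castSucc i)) = s R m (ugen R m (.cbi i)) := fun i =>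
    bwdVal_old R m (.cbi i)
  have n_ci : bwdVal R m (.ci (Fin.last m)) = y R m .x2 := by simp [bwdVal]
  have n_cbi : bwdVal R m (.cbi (Fin.last m)) = y R m .x3 - y R m .x2 - s R m (ugen R m .a) := by
    simp [bwdVal]
  have o_cij : ∀ (i j : Fin m) (h : i.castSucc ≠ j.castSucc), bwdVal R m (.cij i.castSucc j.castSucc h) =
      s R m (ugen R m (.cij i j fun e => h (by rw [e]))) := fun i j h =>
    bwdVal_old R m (.cij i j fun e => h (by rw [e]))
  have n_l : ∀ (j : Fin m) (h : Fin.last m ≠ j.castSucc), bwdVal R m (.cij (Fin.last m) j.castSucc h) =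
      y R m .x3 + s R m (ugen R m (.ci j)) + s R m (ugen R m (.cbi j)) - y R m (.xi j) := by
    intro j h
    simp [bwdVal, (Fin.castSucc_lt_last j).ne]
  have n_r : ∀ (i : Fin m) (h : i.castSucc ≠ Fin.last m),
      bwdVal R m (.cij i.castSucc (Fin.last m) h) = y R m (.xi i) := by
    intro i h
    simp [bwdVal, (Fin.castSucc_lt_last i).ne]
  have h2 : ∀ i, y R m .x2 * y R m (.xi i) - (y R m .x2 * y R m .x3 + s R m (ugen R m (.ci i)) * y R m (.xi i) +
      s R m (ugen R m (.cbi i)) * y R m .x2 - s R m (ugen R m .c)) = 0 := fun i =>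
    Ideal.Quotient.eq_zero_iff_mem.2 (Ideal.subset_span (Or.inl (Or.inl ⟨i, rfl⟩)))
  have h3 : ∀ i, y R m .x3 * y R m (.xi i) - (y R m .x2 * y R m .x3 +
      (s R m (ugen R m .a) + s R m (ugen R m (.ci i)) + s R m (ugen R m (.cbi i))) *
        (y R m (.xi i) - s R m (ugen R m (.cbi i))) + s R m (ugen R m .cb) - s R m (ugen R m .c)) = 0 := fun i => by
    have : Ideal.Quotient.mk (Ideal.span (CRel (URing R m) m (ugen R m))) (X .x3 * X (.xi i) -
        (X .x2 * X .x3 + C (ugen R m .a + ugen R m (.ci i) + ugen R m (.cbi i)) *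
          (X (.xi i) - C (ugen R m (.cbi i))) + C (ugen R m .cb) - C (ugen R m .c))) = 0 :=
      Ideal.Quotient.eq_zero_iff_mem.2 (Ideal.subset_span (Or.inl (Or.inr ⟨i, rfl⟩)))
    simpa [y, s] using this
  have hij : ∀ (i j : Fin m) (h : i ≠ j), y R m (.xi i) * y R m (.xi j) - (y R m .x2 * y R m .x3 +
      s R m (ugen R m (.cij i j h)) * y R m (.xi j) + s R m (ugen R m (.cij j i (Ne.symm h))) * y R m (.xi i) -
        s R m (ugen R m .c)) = 0 := fun i j h =>
    Ideal.Quotient.eq_zero_iff_mem.2 (Ideal.subset_span (Or.inr ⟨⟨(i, j), h⟩, rfl⟩))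
  have L : ∀ (i j : Fin m) (h : i ≠ j), s R m (ugen R m (.cij i j h)) + s R m (ugen R m (.cij j i (Ne.symm h))) -
      (s R m (ugen R m .a) + s R m (ugen R m (.ci i)) + s R m (ugen R m (.cbi i)) + s R m (ugen R m (.ci j)) +
        s R m (ugen R m (.cbi j))) = 0 := fun i j h => by
    simpa only [map_add, map_sub, map_zero] using congrArg (s R m) (hv.lin i j h)
  have Qc : ∀ (i j : Fin m) (h : i ≠ j), s R m (ugen R m (.cij j i (Ne.symm h))) * s R m (ugen R m (.ci j)) +
      s R m (ugen R m (.cij i j h)) * s R m (ugen R m (.ci i)) -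
      s R m (ugen R m (.ci i)) * s R m (ugen R m (.ci j)) - s R m (ugen R m .c) = 0 := fun i j h => by
    simpa only [map_add, map_sub, map_mul, map_zero] using congrArg (s R m) (hv.qc i j h)
  have Qb : ∀ (i j : Fin m) (h : i ≠ j), s R m (ugen R m (.cij j i (Ne.symm h))) * s R m (ugen R m (.cbi i)) +
      s R m (ugen R m (.cij i j h)) * s R m (ugen R m (.cbi j)) -
      s R m (ugen R m (.cbi i)) * s R m (ugen R m (.cbi j)) - s R m (ugen R m .cb) = 0 := fun i j h => by
    simpa only [map_add, map_sub, map_mul, map_zero] using congrArg (s R m) (hv.qb i j h)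
  have T : ∀ (i j l : Fin m) (h1 : i ≠ j) (h2 : j ≠ l) (h3 : i ≠ l),
      s R m (ugen R m (.cij i j h1)) * s R m (ugen R m (.cij j l h2)) +
      s R m (ugen R m (.cij j i (Ne.symm h1))) * s R m (ugen R m (.cij i l h3)) -
      s R m (ugen R m (.cij i l h3)) * s R m (ugen R m (.cij j l h2)) +
      (s R m (ugen R m .a) + s R m (ugen R m (.ci l)) + s R m (ugen R m (.cbi l))) * s R m (ugen R m (.ci l)) -
      s R m (ugen R m .c) = 0 := fun i j l h1 h2 h3 => by
    simpa only [map_add, map_sub, map_mul, map_zero] using congrArg (s R m) (hv.cubic i j l h1 h2 h3)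
  refine ⟨fun i j h => ?_, fun i j h => ?_, fun i j h => ?_, fun i j l => ?_⟩
  · induction i using Fin.lastCases with
    | last =>
      induction j using Fin.lastCases with
      | last => exact absurd rfl h
      | cast j => simp only [o_a, o_ci, o_cbi, n_ci, n_cbi, n_l, n_r]; ring
    | cast i =>
      induction j using Fin.lastCases with
      | last => simp only [o_a, o_ci, o_cbi, n_ci, n_cbi, n_l, n_r]; ring
      | cast j =>
        simp only [o_a, o_ci, o_cbi, o_cij]
        exact L i j (fun e => h (by rw [e]))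
  · induction i using Fin.lastCases with
    | last =>
      induction j using Fin.lastCases with
      | last => exact absurd rfl h
      | cast j =>
        simp only [o_c, o_ci, n_ci, n_l, n_r]
        linear_combination (-(1 : CR R m)) * h2 j
    | cast i =>
      induction j using Fin.lastCases with
      | last =>
        simp only [o_c, o_ci, n_ci, n_l, n_r]
        linear_combination (-(1 : CR R m)) * h2 i
      | cast j =>
        simp only [o_c, o_ci, o_cij]
        exact Qc i j (fun e => h (by rw [e]))
  · induction i using Fin.lastCases with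
    | last =>
      induction j using Fin.lastCases with
      | last => exact absurd rfl h
      | cast j =>
        simp only [o_cb, o_cbi, n_cbi, n_l, n_r]
        linear_combination (1 : CR R m) * h3 j + (-(1 : CR R m)) * h2 j
    | cast i =>
      induction j using Fin.lastCases with
      | last =>
        simp only [o_cb, o_cbi, n_cbi, n_l, n_r]
        linear_combination (1 : CR R m) * h3 i + (-(1 : CR R m)) * h2 i
      | cast j =>
        simp only [o_cb, o_cbi, o_cij]
        exact Qb i j (fun e => h (by rw [e]))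
  · intro h1 h2' h3'
    induction i using Fin.lastCases with
    | last =>
      induction j using Fin.lastCases with
      | last => exact absurd rfl h1
      | cast j =>
        induction l using Fin.lastCases with
        | last => exact absurd rfl h3'
        | cast l =>
          have e : j ≠ l := fun e => h2' (by rw [e])
          simp only [o_a, o_c, o_ci, o_cbi, o_cij, n_l, n_r]
          linear_combination (-(1 : CR R m)) * hij j l e + (1 : CR R m) * h3 j +
            (-(s R m (ugen R m (.ci l))) + s R m (ugen R m (.cbi j)) - y R m (.xi j)) * L j l e +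
            (-(1 : CR R m)) * Qb j l e + (1 : CR R m) * Qc j l e
    | cast i =>
      induction j using Fin.lastCases with
      | last =>
        induction l using Fin.lastCases with
        | last => exact absurd rfl h2'
        | cast l =>
          have e : i ≠ l := fun e => h3' (by rw [e])
          simp only [o_a, o_c, o_ci, o_cbi, o_cij, n_l, n_r]
          linear_combination (-(1 : CR R m)) * hij i l e + (1 : CR R m) * h3 i +
            (-(s R m (ugen R m (.ci l))) + s R m (ugen R m (.cbi i)) - y R m (.xi i)) * L i l e +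
            (-(1 : CR R m)) * Qb i l e + (1 : CR R m) * Qc i l e
      | cast j =>
        have e : i ≠ j := fun e => h1 (by rw [e])
        induction l using Fin.lastCases with
        | last =>
          simp only [o_a, o_c, o_cij, n_ci, n_cbi, n_r]
          linear_combination (-(1 : CR R m)) * hij i j e
        | cast l =>
          simp only [o_a, o_c, o_ci, o_cbi, o_cij]
          exact T i j l e (fun e => h2' (by rw [e])) (fun e => h3' (by rw [e]))

/-- the backward map -/
noncomputable def bwd (hm : 1 ≤ m) : URing R (m + 1) →+* CR R m :=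
  Ideal.Quotient.lift _ (eval₂Hom ((s R m).comp (algebraMap R (URing R m))) (bwdVal R m)) fun p hp =>
    (Ideal.span_le (I := RingHom.ker (eval₂Hom ((s R m).comp (algebraMap R (URing R m))) (bwdVal R m)))).2
      (eval₂_URel _ _ (bwd_isU R m hm)) hp

theorem bwd_ugen (hm : 1 ≤ m) (g : UGen (m + 1)) : bwd R m hm (ugen R (m + 1) g) = bwdVal R m g := by
  change eval₂Hom _ _ (X g) = _
  simp

theorem bwd_uincl (hm : 1 ≤ m) (r : URing R m) : bwd R m hm (uincl R m r) = s R m r := by
  have : (bwd R m hm).comp (uincl R m).toRingHom = s R m := by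
    refine Ideal.Quotient.ringHom_ext (MvPolynomial.ringHom_ext (fun r => ?_) fun g => ?_)
    · change eval₂Hom _ _ (rename UGen.castSucc (C r : MvPolynomial (UGen m) R)) = _
      rw [rename_C, eval₂Hom_C]
      rfl
    · change bwd R m hm (uincl R m (ugen R m g)) = s R m (ugen R m g)
      rw [uincl_ugen, bwd_ugen, bwdVal_old]
  exact DFunLike.congr_fun this r

/-- U_{n+1} is the curve over U_n -/
noncomputable def stepEquiv (hm : 1 ≤ m) : CR R m ≃+* URing R (m + 1) :=
  RingEquiv.ofRingHom (fwd R m) (bwd R m hm)
    (by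
      refine Ideal.Quotient.ringHom_ext (MvPolynomial.ringHom_ext (fun r => ?_) fun g => ?_)
      · change fwd R m (eval₂Hom _ _ (C r : MvPolynomial (UGen (m + 1)) R)) = _
        rw [eval₂Hom_C, RingHom.comp_apply, fwd_s, AlgHom.commutes]
        rfl
      · change fwd R m (bwd R m hm (ugen R (m + 1) g)) = ugen R (m + 1) g
        rw [bwd_ugen]
        cases g with
        | a => exact (fwd_s R m _).trans (uincl_ugen R m _)
        | c => exact (fwd_s R m _).trans (uincl_ugen R m _)
        | cb => exact (fwd_s R m _).trans (uincl_ugen R m _)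
        | ci i => induction i using Fin.lastCases <;> simp [bwdVal, fwd_s, fwd_y, fwdVal, uincl_ugen, UGen.castSucc]
        | cbi i =>
          induction i using Fin.lastCases <;> simp [bwdVal, fwd_s, fwd_y, fwdVal, uincl_ugen, UGen.castSucc]
          ring
        | cij i j h =>
          induction i using Fin.lastCases with
          | last =>
            induction j using Fin.lastCases with
            | last => exact absurd rfl h
            | cast j =>
              simp [bwdVal, (Fin.castSucc_lt_last j).ne, fwd_s, fwd_y, fwdVal, uincl_ugen, UGen.castSucc]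
              linear_combination -(isU_ugen R (m + 1)).lin _ _ h
          | cast i =>
            induction j using Fin.lastCases <;>
              simp [bwdVal, (Fin.castSucc_lt_last i).ne, (Fin.castSucc_lt_last _).ne, fwd_s, fwd_y, fwdVal, uincl_ugen, UGen.castSucc])
    (by
      refine Ideal.Quotient.ringHom_ext (MvPolynomial.ringHom_ext (fun r => ?_) fun z => ?_)
      · change bwd R m hm (fwd R m (s R m r)) = s R m r
        rw [fwd_s, bwd_uincl]
      · change bwd R m hm (fwd R m (y R m z)) = y R m z
        rw [fwd_y]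
        cases z <;> simp [fwdVal, bwd_ugen, bwdVal, (Fin.castSucc_lt_last _).ne]
        ring)

theorem stepEquiv_apply (hm : 1 ≤ m) (x : CR R m) : stepEquiv R m hm x = fwd R m x := rfl

end Groth.Agent.UCurves
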