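/-
The weight grading of the coordinate ring of U_n and a homogeneous basis.
-/
import Groth.Agent.UCurves.Step
import Mathlib.RingTheory.MvPolynomial.WeightedHomogeneous
import Mathlib.RingTheory.PowerSeries.Basic
import Mathlib.Algebra.Polynomial.Eval.Defs
import Mathlib.Algebra.Polynomial.Coeff
import Mathlib.RingTheory.AlgebraTower
import Mathlib.Data.Finsupp.Fin
import Mathlib.Algebra.MvPolynomial.Basic
import Mathlib.Data.Finsupp.Weight
import Mathlib.SetTheory.Cardinal.Finite
import Mathlib.Data.Finite.Sigma
import Mathlib.Data.Finite.Prod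
import Mathlib.LinearAlgebra.FreeModule.StrongRankCondition
import Mathlib.LinearAlgebra.Dimension.Constructions

universe u

open MvPolynomial W4c5m1nsnscurves

namespace Groth.Agent.UCurves

variable (R : Type u) [CommRing R] (m : ℕ)

/-- each generator times the weight power of `T` -/
noncomputable def scaleVal (g : UGen m) : Polynomial (URing R m) :=
  Polynomial.C (ugen R m g) * Polynomial.X ^ uwt g

theorem scale_isU : IsU (scaleVal R m) where
  lin i j h := by
    have := congrArg (fun z => Polynomial.C z * (Polynomial.X : Polynomial (URing R m))) ((isU_ugen R m).lin i j h)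
    simp only [map_sub, map_add, map_zero] at this
    simp only [scaleVal, uwt, pow_one]
    linear_combination this
  qc i j h := by
    have := congrArg (fun z => Polynomial.C z * (Polynomial.X : Polynomial (URing R m)) ^ 2) ((isU_ugen R m).qc i j h)
    simp only [map_sub, map_add, map_mul, map_zero] at this
    simp only [scaleVal, uwt, pow_one]
    linear_combination this
  qb i j h := by
    have := congrArg (fun z => Polynomial.C z * (Polynomial.X : Polynomial (URing R m)) ^ 2) ((isU_ugen R m).qb i j h)
    simp only [map_sub, map_add, map_mul, map_zero] at this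
    simp only [scaleVal, uwt, pow_one]
    linear_combination this
  cubic i j l h1 h2 h3 := by
    have := congrArg (fun z => Polynomial.C z * (Polynomial.X : Polynomial (URing R m)) ^ 2)
      ((isU_ugen R m).cubic i j l h1 h2 h3)
    simp only [map_sub, map_add, map_mul, map_zero] at this
    simp only [scaleVal, uwt, pow_one]
    linear_combination this

/-- the grading homomorphism -/
noncomputable def scale : URing R m →+* Polynomial (URing R m) :=
  Ideal.Quotient.lift _ (eval₂Hom (Polynomial.C.comp (algebraMap R (URing R m))) (scaleVal R m)) fun p hp => by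
    have key := eval₂_URel (Polynomial.C.comp (algebraMap R (URing R m))) (scaleVal R m) (scale_isU R m)
    have hle : Ideal.span (URel R m) ≤
        RingHom.ker (eval₂Hom (Polynomial.C.comp (algebraMap R (URing R m))) (scaleVal R m)) :=
      Ideal.span_le.2 fun q hq => RingHom.mem_ker.2 (key q hq)
    exact RingHom.mem_ker.1 (hle hp)

theorem scale_ugen (g : UGen m) :
    scale R m (ugen R m g) = Polynomial.C (ugen R m g) * Polynomial.X ^ uwt g := by
  change eval₂Hom _ _ (X g) = _
  simp [scaleVal]

theorem scale_algebraMap (r : R) : scale R m (algebraMap R _ r) = Polynomial.C (algebraMap R _ r) := by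
  change eval₂Hom _ _ (C r : MvPolynomial (UGen m) R) = _
  simp

/-- `x` is homogeneous of weight `d` -/
def Homog (d : ℕ) (x : URing R m) : Prop :=
  scale R m x = Polynomial.C x * Polynomial.X ^ d

variable {R m}

theorem homog_ugen (g : UGen m) : Homog R m (uwt g) (ugen R m g) := scale_ugen R m g

theorem homog_one : Homog R m 0 (1 : URing R m) := by simp [Homog]

theorem Homog.mul {d e : ℕ} {x y : URing R m} (hx : Homog R m d x) (hy : Homog R m e y) :
    Homog R m (d + e) (x * y) := by
  unfold Homog at *
  rw [map_mul, hx, hy, map_mul, pow_add]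
  ring

theorem Homog.add {d : ℕ} {x y : URing R m} (hx : Homog R m d x) (hy : Homog R m d y) :
    Homog R m d (x + y) := by
  unfold Homog at *
  rw [map_add, hx, hy, map_add, add_mul]

theorem Homog.pow {d : ℕ} {x : URing R m} (hx : Homog R m d x) : ∀ n : ℕ, Homog R m (n * d) (x ^ n)
  | 0 => by simpa using homog_one
  | n + 1 => by
    rw [pow_succ, add_one_mul]
    exact (Homog.pow hx n).mul hx

theorem Homog.incl {d : ℕ} {x : URing R m} (hx : Homog R m d x) : Homog R (m + 1) d (uincl R m x) := by
  have : (scale R (m + 1)).comp (uincl R m).toRingHom =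
      (Polynomial.mapRingHom (uincl R m).toRingHom).comp (scale R m) := by
    refine Ideal.Quotient.ringHom_ext (MvPolynomial.ringHom_ext (fun r => ?_) fun g => ?_)
    · change scale R (m + 1) (uincl R m (algebraMap R _ r)) =
        Polynomial.mapRingHom _ (scale R m (algebraMap R _ r))
      rw [AlgHom.commutes, scale_algebraMap, scale_algebraMap]
      simp
    · change scale R (m + 1) (uincl R m (ugen R m g)) = Polynomial.mapRingHom _ (scale R m (ugen R m g))
      rw [uincl_ugen, scale_ugen, scale_ugen]
      have hw : uwt (UGen.castSucc g) = uwt g := by cases g <;> rfl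
      simp [hw, uincl_ugen]
  have h := DFunLike.congr_fun this x
  simp only [RingHom.comp_apply] at h
  unfold Homog at *
  rw [hx] at h
  simpa using h

theorem mk_mem_upiece_iff (d : ℕ) (x : URing R m) : x ∈ upiece R m d ↔ Homog R m d x := by
  have key : ∀ (e : ℕ) (p : MvPolynomial (UGen m) R),
      (scale R m (Ideal.Quotient.mk _ p)).coeff e =
        Ideal.Quotient.mk (Ideal.span (URel R m)) (weightedHomogeneousComponent (uwt (m := m)) e p) := by
    intro e p
    induction p using MvPolynomial.induction_on' with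
    | monomial s r =>
      have hs : scale R m (Ideal.Quotient.mk _ (monomial s r)) =
          Polynomial.C (Ideal.Quotient.mk (Ideal.span (URel R m)) (monomial s r)) *
            Polynomial.X ^ (Finsupp.weight (uwt (m := m)) s) := by
        induction s using Finsupp.induction generalizing r with
        | zero =>
          rw [map_zero, pow_zero, mul_one]
          exact scale_algebraMap R m r
        | single_add g n s hg hn ih =>
          rw [show monomial (Finsupp.single g n + s) r = X g ^ n * monomial s r by
              rw [X_pow_eq_monomial, monomial_mul, one_mul],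
            map_mul, map_mul, map_pow, map_pow, ih, show Ideal.Quotient.mk _ (X g) = ugen R m g from rfl,
            scale_ugen, map_add, Finsupp.weight_single, map_mul, map_pow, smul_eq_mul, pow_add]
          ring
      classical
      rw [hs, Polynomial.coeff_C_mul_X_pow]
      by_cases h : Finsupp.weight (uwt (m := m)) s = e
      · rw [if_pos h.symm, weightedHomogeneousComponent_eq_self]
        exact isWeightedHomogeneous_monomial _ _ _ h
      · rw [if_neg (Ne.symm h), weightedHomogeneousComponent_eq_zero', map_zero]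
        intro s' hs'
        have := Finset.mem_singleton.1 (support_monomial_subset hs')
        rw [this]
        exact h
    | add p q hp hq => simp [hp, hq]
  constructor
  · rintro ⟨p, hp, rfl⟩
    change Homog R m d (Ideal.Quotient.mk _ p)
    refine Polynomial.ext fun e => ?_
    rw [key, Polynomial.coeff_C_mul_X_pow]
    by_cases h : e = d
    · subst h
      rw [if_pos rfl, weightedHomogeneousComponent_eq_self]
      exact hp
    · rw [if_neg h, weightedHomogeneousComponent_of_mem hp, if_neg h, map_zero]
  · intro hx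
    obtain ⟨p, rfl⟩ := Ideal.Quotient.mk_surjective x
    refine ⟨weightedHomogeneousComponent (uwt (m := m)) d p, weightedHomogeneousComponent_mem _ _ _, ?_⟩
    change Ideal.Quotient.mk _ _ = _
    rw [← key, hx, Polynomial.coeff_C_mul_X_pow, if_pos rfl]

theorem usmul (r : R) (x : URing R m) : r • x = algebraMap R (URing R m) r * x := Algebra.smul_def r x

/-- a basis by homogeneous elements computes the pieces -/
theorem upiece_eq_span {ι : Type} (b : Module.Basis ι R (URing R m)) (w : ι → ℕ)
    (hb : ∀ i, Homog R m (w i) (b i)) (d : ℕ) :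
    upiece R m d = Submodule.span R (b '' {i | w i = d}) := by
  classical
  refine le_antisymm (fun x hx => ?_) (Submodule.span_le.2 ?_)
  · rw [b.mem_span_image]
    intro i hi
    by_contra hne
    have h1 : scale R m x = (b.repr x).sum fun j c => Polynomial.C (c • b j) * Polynomial.X ^ w j := by
      conv_lhs => rw [← b.linearCombination_repr x, Finsupp.linearCombination_apply, map_finsuppSum]
      refine Finsupp.sum_congr fun j _ => ?_
      rw [usmul, map_mul, scale_algebraMap, hb j, map_mul, mul_assoc]
    have h2 := congrArg (fun f => Polynomial.coeff f (w i)) h1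
    simp only [Set.mem_setOf_eq] at hne
    rw [(mk_mem_upiece_iff d x).1 hx, Polynomial.coeff_C_mul_X_pow, if_neg hne] at h2
    simp only [Finsupp.sum, Polynomial.finsetSum_coeff, Polynomial.coeff_C_mul_X_pow] at h2
    rw [← Finset.sum_filter] at h2
    have := linearIndependent_iff'.1 b.linearIndependent _ _ h2.symm i
      (Finset.mem_filter.2 ⟨hi, rfl⟩)
    exact (Finsupp.mem_support_iff.1 hi) this
  · rintro _ ⟨i, rfl, rfl⟩
    exact (mk_mem_upiece_iff _ _).2 (hb i)

theorem isInternal_upiece {ι : Type} (b : Module.Basis ι R (URing R m)) (w : ι → ℕ)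
    (hb : ∀ i, Homog R m (w i) (b i)) : DirectSum.IsInternal (upiece R m) := by
  classical
  rw [DirectSum.isInternal_submodule_iff_iSupIndep_and_iSup_eq_top]
  constructor
  · intro d
    rw [disjoint_iff]
    have : (⨆ e, ⨆ (_ : e ≠ d), upiece R m e) ≤ Submodule.span R (b '' {i | w i ≠ d}) := by
      refine iSup₂_le fun e he => ?_
      rw [upiece_eq_span b w hb]
      exact Submodule.span_mono (Set.image_mono fun i (hi : w i = e) => (hi ▸ he : w i ≠ d))
    refine le_bot_iff.1 (le_trans (inf_le_inf_left _ this) ?_)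
    rw [upiece_eq_span b w hb]
    exact (b.linearIndependent.disjoint_span_image
      (Set.disjoint_left.2 fun i (hi : w i = d) (hi' : w i ≠ d) => hi' hi)).le_bot
  · rw [eq_top_iff, ← b.span_eq, Submodule.span_le]
    rintro _ ⟨i, rfl⟩
    exact Submodule.mem_iSup_of_mem (w i) ((mk_mem_upiece_iff _ _).2 (hb i))

/-- generating function of a weight -/
noncomputable def gfun {ι : Type} (w : ι → ℕ) : PowerSeries ℤ :=
  PowerSeries.mk fun d => (Nat.card {i // w i = d} : ℤ)

theorem gfun_prod {ι κ : Type} (w : ι → ℕ) (v : κ → ℕ) (hw : ∀ d, Finite {i // w i = d})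
    (hv : ∀ d, Finite {i // v i = d}) :
    gfun (fun p : ι × κ => w p.1 + v p.2) = gfun w * gfun v ∧
      ∀ d, Finite {p : ι × κ // w p.1 + v p.2 = d} := by
  classical
  let e : ∀ d, {p : ι × κ // w p.1 + v p.2 = d} ≃
      Σ q : {q : ℕ × ℕ // q ∈ Finset.antidiagonal d}, {i // w i = q.1.1} × {j // v j = q.1.2} := fun d =>
    { toFun := fun p => ⟨⟨(w p.1.1, v p.1.2), Finset.mem_antidiagonal.2 p.2⟩, ⟨p.1.1, rfl⟩, ⟨p.1.2, rfl⟩⟩
      invFun := fun s => ⟨(s.2.1.1, s.2.2.1), by
        rw [s.2.1.2, s.2.2.2]; exact Finset.mem_antidiagonal.1 s.1.2⟩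
      left_inv := fun p => rfl
      right_inv := by
        rintro ⟨⟨⟨a, b⟩, h⟩, ⟨i, hi⟩, ⟨j, hj⟩⟩
        simp only at hi hj
        subst hi hj
        rfl }
  refine ⟨?_, fun d => ?_⟩
  · refine PowerSeries.ext fun d => ?_
    rw [PowerSeries.coeff_mul, gfun, PowerSeries.coeff_mk, Nat.card_congr (e d), Nat.card_sigma,
      Nat.cast_sum, ← Finset.sum_coe_sort (Finset.antidiagonal d)]
    refine Finset.sum_congr rfl fun q _ => ?_
    rw [Nat.card_prod, gfun, gfun, PowerSeries.coeff_mk, PowerSeries.coeff_mk]
    push_cast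
    rfl
  · haveI := fun q : {q : ℕ × ℕ // q ∈ Finset.antidiagonal d} => hw q.1.1
    haveI := fun q : {q : ℕ × ℕ // q ∈ Finset.antidiagonal d} => hv q.1.2
    exact Finite.of_equiv _ (e d).symm

theorem finrank_upiece {ι : Type} [Nontrivial R] (b : Module.Basis ι R (URing R m)) (w : ι → ℕ)
    (hb : ∀ i, Homog R m (w i) (b i)) (d : ℕ) (hfin : Finite {i // w i = d}) :
    Module.finrank R (upiece R m d) = Nat.card {i // w i = d} := by
  haveI := hfin
  haveI := Fintype.ofFinite {i // w i = d}
  have h : upiece R m d = Submodule.span R (Set.range fun i : {i // w i = d} => b i.1) := by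
    rw [upiece_eq_span b w hb]
    congr 1
    ext x
    simp
  rw [h, Nat.card_eq_fintype_card]
  exact finrank_span_eq_card (b.linearIndependent.comp _ Subtype.val_injective)

/-- weight of a member of the monomial family of the curve -/
def zwt {m : ℕ} : Option (ℕ ⊕ (CVar m × ℕ)) → ℕ
  | none => 0
  | some (Sum.inl k) => k + 2
  | some (Sum.inr (_, k)) => k + 1

/-- the variables of the curve as a finite type -/
def cvarEquiv (m : ℕ) : CVar m ≃ Option (Option (Fin m)) where
  toFun
    | .x2 => none
    | .x3 => some none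
    | .xi i => some (some i)
  invFun
    | none => .x2
    | some none => .x3
    | some (some i) => .xi i
  left_inv y := by cases y <;> rfl
  right_inv y := by rcases y with _ | _ | i <;> rfl

theorem gfun_zwt (m : ℕ) :
    gfun (zwt (m := m)) = (PowerSeries.mk fun _ => (1 : ℤ)) *
        (1 + PowerSeries.C ((m + 1 : ℕ) : ℤ) * PowerSeries.X + PowerSeries.X ^ 2) ∧
      ∀ d, Finite {z : Option (ℕ ⊕ (CVar m × ℕ)) // zwt z = d} := by
  classical
  let e0 : {z : Option (ℕ ⊕ (CVar m × ℕ)) // zwt z = 0} ≃ Unit :=
    { toFun := fun _ => ()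
      invFun := fun _ => ⟨none, rfl⟩
      left_inv := by rintro ⟨_ | ⟨k | ⟨y, k⟩⟩, h⟩ <;> simp [zwt] at h ⊢
      right_inv := fun _ => rfl }
  let e1 : {z : Option (ℕ ⊕ (CVar m × ℕ)) // zwt z = 1} ≃ Option (Option (Fin m)) :=
    { toFun := fun z => match z with
        | ⟨some (Sum.inr (y, _)), _⟩ => cvarEquiv m y
        | ⟨none, h⟩ => absurd h (by simp [zwt])
        | ⟨some (Sum.inl k), h⟩ => absurd h (by simp [zwt])
      invFun := fun y => ⟨some (Sum.inr ((cvarEquiv m).symm y, 0)), rfl⟩
      left_inv := by
        rintro ⟨_ | ⟨k | ⟨y, k⟩⟩, h⟩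
        · simp [zwt] at h
        · simp [zwt] at h
        · simp only [zwt] at h
          exact Subtype.ext (by simp; omega)
      right_inv := fun y => by simp }
  let e2 : ∀ d, {z : Option (ℕ ⊕ (CVar m × ℕ)) // zwt z = d + 2} ≃ Option (Option (Option (Fin m))) := fun d =>
    { toFun := fun z => match z with
        | ⟨some (Sum.inr (y, _)), _⟩ => some (cvarEquiv m y)
        | ⟨none, h⟩ => absurd h (by simp [zwt])
        | ⟨some (Sum.inl _), _⟩ => none
      invFun := fun y => match y with
        | none => ⟨some (Sum.inl d), rfl⟩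
        | some y => ⟨some (Sum.inr ((cvarEquiv m).symm y, d + 1)), rfl⟩
      left_inv := by
        rintro ⟨_ | ⟨k | ⟨y, k⟩⟩, h⟩
        · simp [zwt] at h
        · simp only [zwt] at h
          exact Subtype.ext (by simp; omega)
        · simp only [zwt] at h
          exact Subtype.ext (by simp; omega)
      right_inv := fun y => by cases y <;> simp }
  constructor
  · refine PowerSeries.ext fun d => ?_
    rw [gfun, PowerSeries.coeff_mk, mul_comm, add_mul, add_mul, one_mul, mul_assoc, map_add, map_add,
      PowerSeries.coeff_C_mul, PowerSeries.coeff_mk]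
    rcases d with _ | _ | d
    · rw [Nat.card_congr e0]
      simp [sq, mul_assoc]
    · rw [Nat.card_congr e1]
      simp [sq, mul_assoc, PowerSeries.coeff_succ_X_mul]
      ring
    · rw [Nat.card_congr (e2 d)]
      simp [sq, mul_assoc, PowerSeries.coeff_succ_X_mul]
      ring
  · intro d
    rcases d with _ | _ | d
    · exact Finite.of_equiv _ e0.symm
    · exact Finite.of_equiv _ e1.symm
    · exact Finite.of_equiv _ (e2 d).symm

theorem gfun_deg : ∀ n : ℕ, gfun (fun s : Fin n →₀ ℕ => ∑ i, s i) = (PowerSeries.mk fun _ => (1 : ℤ)) ^ n ∧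
    ∀ d, Finite {s : Fin n →₀ ℕ // ∑ i, s i = d} := by
  intro n
  induction n with
  | zero =>
    refine ⟨?_, fun d => Subtype.finite⟩
    refine PowerSeries.ext fun d => ?_
    rw [gfun, PowerSeries.coeff_mk, pow_zero, PowerSeries.coeff_one]
    by_cases h : d = 0
    · subst h
      simp
    · rw [if_neg h]
      simp [Ne.symm h]
  | succ n ih =>
    let id' : ℕ → ℕ := fun k => k
    have hid : gfun id' = PowerSeries.mk (fun _ => (1 : ℤ)) ∧ ∀ d, Finite {k // id' k = d} := by
      refine ⟨PowerSeries.ext fun d => ?_, fun d => ?_⟩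
      · simp [gfun, id']
      · exact Finite.of_equiv _ (Equiv.subtypeEquivRight (fun k => Iff.rfl : ∀ k, k = d ↔ id' k = d))
    obtain ⟨h1, h2⟩ := gfun_prod id' (fun s : Fin n →₀ ℕ => ∑ i, s i) hid.2 ih.2
    let e : ∀ d, {s : Fin (n + 1) →₀ ℕ // ∑ i, s i = d} ≃
        {p : ℕ × (Fin n →₀ ℕ) // id' p.1 + ∑ i, p.2 i = d} := fun d =>
      { toFun := fun s => ⟨(s.1 0, s.1.tail), by
          have := s.2
          rw [Fin.sum_univ_succ] at this
          simpa [id', Finsupp.tail_apply] using this⟩
        invFun := fun p => ⟨Finsupp.cons p.1.1 p.1.2, by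
          rw [Fin.sum_univ_succ]
          simpa [id'] using p.2⟩
        left_inv := fun s => Subtype.ext (Finsupp.cons_tail s.1)
        right_inv := fun p => Subtype.ext (Prod.ext (Finsupp.cons_zero _ _) (Finsupp.tail_cons _ _)) }
    refine ⟨PowerSeries.ext fun d => ?_, fun d => ?_⟩
    · rw [gfun, PowerSeries.coeff_mk, Nat.card_congr (e d), pow_succ', ← ih.1, ← hid.1, ← h1, gfun,
        PowerSeries.coeff_mk]
    · haveI := h2 d
      exact Finite.of_equiv _ (e d).symm

/-- a homogeneous basis with the asserted generating function -/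
def HasBasis (R : Type u) [CommRing R] (m : ℕ) : Prop :=
  ∃ (ι : Type) (b : Module.Basis ι R (URing R m)) (w : ι → ℕ),
    (∀ i, Homog R m (w i) (b i)) ∧ (∀ d, Finite {i // w i = d}) ∧ gfun w = uhilb m

theorem homog_fwd_cmon (m : ℕ) (z : Option (ℕ ⊕ (CVar m × ℕ))) :
    Homog R (m + 1) (zwt z) (fwd R m (cmon (URing R m) m (ugen R m) z)) := by
  have g0 : ∀ g : UGen (m + 1), uwt g = 1 → Homog R (m + 1) 1 (ugen R (m + 1) g) := fun g hg => by
    have hh := homog_ugen (R := R) g
    rw [hg] at hh
    exact hh
  have h2 : Homog R (m + 1) 1 (fwdVal R m .x2) := g0 (UGen.ci (Fin.last m)) rfl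
  have h3 : Homog R (m + 1) 1 (fwdVal R m .x3) :=
    ((g0 UGen.a rfl).add (g0 (UGen.ci (Fin.last m)) rfl)).add (g0 (UGen.cbi (Fin.last m)) rfl)
  have hy : ∀ y, Homog R (m + 1) 1 (fwdVal R m y) := by
    intro y
    cases y with
    | x2 => exact h2
    | x3 => exact h3
    | xi i => exact g0 (UGen.cij i.castSucc (Fin.last m) (Fin.castSucc_lt_last i).ne) rfl
  have hmk : ∀ u, fwd R m (Ideal.Quotient.mk (Ideal.span (CRel (URing R m) m (ugen R m))) (X u)) =
      fwdVal R m u := fun u => fwd_y R m u
  rw [cmon_eq]
  rcases z with _ | ⟨k | ⟨u, k⟩⟩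
  · rw [pmon, map_one, map_one]
    exact homog_one
  · rw [pmon, map_mul, map_pow, map_mul, map_pow, hmk, hmk]
    have := (h2.pow (k + 1)).mul h3
    rw [mul_one] at this
    exact this
  · rw [pmon, map_pow, map_pow, hmk]
    have := (hy u).pow (k + 1)
    rw [mul_one] at this
    exact this

theorem hasBasis_succ (m : ℕ) (hm : 2 ≤ m) (h : HasBasis R m) : HasBasis R (m + 1) := by
  classical
  obtain ⟨ι, b, w, hb, hfin, hg⟩ := h
  have hm1 : 1 ≤ m := by omega
  letI : Algebra (URing R m) (URing R (m + 1)) := (uincl R m).toRingHom.toAlgebra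
  haveI : IsScalarTower R (URing R m) (URing R (m + 1)) :=
    IsScalarTower.of_algebraMap_eq fun r => ((uincl R m).commutes r).symm
  let e : CR R m ≃ₗ[URing R m] URing R (m + 1) :=
    { (stepEquiv R m hm1).toAddEquiv with
      map_smul' := fun r x => by
        change fwd R m (r • x) = uincl R m r * fwd R m x
        rw [show r • x = s R m r * x from Algebra.smul_def r x, map_mul, fwd_s] }
  let i0 : Fin m := ⟨0, by omega⟩
  have hU := isU_ugen R m
  have hli : LinearIndependent (URing R m) (cmon (URing R m) m (ugen R m)) :=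
    (cmon_indep_iff (ugen R m) i0).2 (indep m (ugen R m) hU _ fun j => dAt_eq (ugen R m) hU j i0)
  let b0 : Module.Basis (Option (ℕ ⊕ (CVar m × ℕ))) (URing R m) (CR R m) :=
    Module.Basis.mk hli (cmon_span (ugen R m) i0).ge
  have hb0 : ∀ z, b0 z = cmon (URing R m) m (ugen R m) z := fun z => Module.Basis.mk_apply _ _ z
  have he : ∀ x, e x = fwd R m x := fun x => stepEquiv_apply R m hm1 x
  clear_value b0 e
  refine ⟨ι × Option (ℕ ⊕ (CVar m × ℕ)), b.smulTower (b0.map e), fun p => w p.1 + zwt p.2, ?_,
    (gfun_prod w zwt hfin (gfun_zwt m).2).2, ?_⟩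
  · intro p
    rw [Module.Basis.smulTower_apply, Algebra.smul_def]
    refine ((hb p.1).incl).mul ?_
    rw [Module.Basis.map_apply, he, hb0]
    exact homog_fwd_cmon m p.2
  · rw [(gfun_prod w zwt hfin (gfun_zwt m).2).1, hg, (gfun_zwt m).1, uhilb, uhilb,
      show m + 1 + 4 = (m + 4) + 1 by omega, pow_succ, Finset.prod_Icc_succ_top (by omega : 3 ≤ m + 1)]
    ring

theorem homog_prod {n : ℕ} (f : Fin n → URing R m) (hf : ∀ i, Homog R m 1 (f i)) (s : Fin n →₀ ℕ) :
    Homog R m (∑ i, s i) (MvPolynomial.aeval f (monomial s (1 : R))) := by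
  classical
  rw [aeval_monomial, map_one, one_mul, Finsupp.prod_fintype _ _ (fun i => pow_zero _)]
  induction (Finset.univ : Finset (Fin n)) using Finset.induction_on with
  | empty => simpa using homog_one
  | insert i t hit ih =>
    rw [Finset.sum_insert hit, Finset.prod_insert hit]
    refine Homog.mul ?_ ih
    simpa using (hf i).pow (s i)

set_option maxHeartbeats 1000000 in
theorem hasBasis_two (hbij : Function.Bijective (MvPolynomial.aeval (R := R) (S₁ := URing R 2)
    ![ugen R 2 .a, ugen R 2 (.ci 0), ugen R 2 (.cbi 0), ugen R 2 (.ci 1), ugen R 2 (.cbi 1),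
      ugen R 2 (.cij 0 1 Fin.zero_ne_one)])) : HasBasis R 2 := by
  refine ⟨Fin 6 →₀ ℕ, (MvPolynomial.basisMonomials (Fin 6) R).map (AlgEquiv.ofBijective _ hbij).toLinearEquiv,
    fun s => ∑ i, s i, fun s => ?_, (gfun_deg 6).2, ?_⟩
  · rw [Module.Basis.map_apply, MvPolynomial.coe_basisMonomials, AlgEquiv.toLinearEquiv_apply,
      AlgEquiv.coe_ofBijective]
    refine homog_prod _ (fun i => ?_) s
    fin_cases i <;> exact homog_ugen _
  · rw [(gfun_deg 6).1, uhilb, Finset.Icc_eq_empty (by omega), Finset.prod_empty, mul_one]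

end Groth.Agent.UCurves
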